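import Cfsg.Agent.H92.Eleven.Api
import Cfsg.Agent.H63.Eleven.CharB
import Cfsg.Agent.H63.Eleven.CharB
-- owner: helper51 (delegated by helper92)

/-!
The quotient `C(t)/⟨t⟩` on the fixed points of `t` satisfies the hypotheses of the block equation.

Outline. `Ω` = fixed points, `X = C(t)/⟨t⟩`, `I` = involutions `x ≠ t` commuting with `t` that lie in
some block. For `x ∈ I` and a fixed point `c`: `x` normalises `M = c ⊔ x • c`, so `x = l * e`, and
`e = 1` as `C(M)` is conjugate to `C(L)` of odd order; so `x ∈ M`. Hence `I → Bl`, `x ↦ a ⊔ x • a`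
has fibres of size 30, `J` = image of `I` (one class: `block_trans`, one class in `A₅`) has 15u
members; pairs agreeing with `w` fibre over the lines `c ⊔ w • c` containing `w` (12 points, 56
pairs each), so `3 N = 7 f`. `C` = two point stabiliser = `⟨t⟩ × ⟨y⟩ × C(L)`; `three_fixed` gives
`hfix`; `g, g s ∈ J` forces `g` to interchange `a, b`, so `g ∈ w ⟨y⟩` modulo `t`.
-/

set_option autoImplicit false
set_option linter.style.haveILetI false

namespace H92.Eleven

open H63.Eleven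

universe u

variable {G : Type u} [Group G] [Finite G] {S : Sys G}

namespace Count

/-- Involutions of the alternating group of degree five are conjugate. -/
theorem a5_conj : ∀ s r : alternatingGroup (Fin 5), s * s = 1 → s ≠ 1 → r * r = 1 → r ≠ 1 →
    ∃ g, g * s * g⁻¹ = r := by decide +kernel

theorem a5_count : Fintype.card {q : Multiplicative (ZMod 2) × alternatingGroup (Fin 5) //
    q * q = 1 ∧ q ≠ 1 ∧ q ≠ (Multiplicative.ofAdd 1, 1)} = 30 := by decide +kernel

variable (C : Conf S)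

/-- An involution of a block other than `t`, commuting with `t`. -/
def Inv (x : G) : Prop :=
  orderOf x = 2 ∧ x * C.t = C.t * x ∧ x ≠ C.t ∧ ∃ M, JLine S M ∧ C.t ∈ M ∧ x ∈ M

theorem sq_eq_one {x : G} (h : orderOf x = 2) : x * x = 1 := by
  rw [← pow_two, ← h, pow_orderOf_eq_one]

theorem orderOf_two {x : G} (h : x * x = 1) (h1 : x ≠ 1) : orderOf x = 2 :=
  orderOf_eq_prime (by rw [pow_two, h]) h1

theorem smul_fixed {x : G} (hx : x * C.t = C.t * x) {c : S.Pt} (hc : C.t • c = c) :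
    C.t • (x • c) = x • c := by
  rw [← mul_smul, ← hx, mul_smul, hc]

theorem inv_conj {x : G} (hx : Inv C x) {h : G} (hh : h * C.t = C.t * h) :
    Inv C (h * x * h⁻¹) := by
  obtain ⟨ho, hxt, hne, M, hM, htM, hxM⟩ := hx
  have ht : h * C.t * h⁻¹ = C.t := by rw [hh, mul_inv_cancel_right]
  refine ⟨?_, ?_, fun e => hne ?_, cj h M, hM.conj h, ?_, ?_⟩
  · rw [← ho]; exact MulEquiv.orderOf_eq (MulAut.conj h) x
  · conv_lhs => rw [← ht]
    conv_rhs => rw [← ht]
    simp only [mul_assoc, inv_mul_cancel_left]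
    rw [← mul_assoc x, hxt, mul_assoc]
  · rw [← ht] at e; exact mul_left_cancel (mul_right_cancel e)
  · rw [← ht]; exact ⟨C.t, htM, rfl⟩
  · exact ⟨x, hxM, rfl⟩

theorem fpf {x : G} (hx : Inv C x) {c : S.Pt} (hc : C.t • c = c) : x • c ≠ c := by
  obtain ⟨ho, hxt, hne, M, hM, htM, hxM⟩ := hx
  obtain ⟨g, hg, hgM⟩ := C.block_trans hM htM
  have hg' : g⁻¹ * C.t = C.t * g⁻¹ := (Commute.inv_left hg)
  have hconj : g * C.t * g⁻¹ = C.t := by rw [hg, mul_inv_cancel_right]
  have hx' : g⁻¹ * x * g ∈ C.L := by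
    rw [← hgM, mem_cj] at hxM; exact hxM
  intro hcc
  refine C.invol_fpf hx' ?_ ?_ ?_ (c := g⁻¹ • c) (smul_fixed C hg' hc) ?_
  · rw [← ho]
    simpa using MulEquiv.orderOf_eq (MulAut.conj g⁻¹) x
  · calc g⁻¹ * x * g * C.t = g⁻¹ * x * (g * C.t) := by group
      _ = g⁻¹ * (x * C.t) * g := by rw [hg]; group
      _ = (g⁻¹ * C.t) * x * g := by rw [hxt]; group
      _ = C.t * (g⁻¹ * x * g) := by rw [hg']; group
  · intro e
    refine hne ?_
    rw [← hconj, ← e]
    group
  · rw [← mul_smul, mul_assoc, mul_inv_cancel, mul_one, mul_smul, hcc]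

/-- An involution commuting with `t` lies in the line of a fixed point and its image. -/
theorem mem_line (hv : Odd C.v) {x : G} (hx : x * x = 1) (hxt : x * C.t = C.t * x) {c : S.Pt}
    (hc : C.t • c = c) (hne : x • c ≠ c) :
    JLine S (c.1 ⊔ (x • c).1) ∧ C.t ∈ c.1 ⊔ (x • c).1 ∧ x ∈ c.1 ⊔ (x • c).1 := by
  obtain ⟨hM, htM⟩ := C.pair_line hc (smul_fixed C hxt hc) (Ne.symm hne)
  refine ⟨hM, htM, ?_⟩
  have hxx : x • (x • c) = c := by rw [← mul_smul, hx, one_smul]
  have hcj : cj x (c.1 ⊔ (x • c).1) = c.1 ⊔ (x • c).1 := by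
    show (c.1 ⊔ (x • c).1).map _ = _
    rw [Subgroup.map_sup, sup_comm]
    congr 1
    exact congrArg Subtype.val hxx
  obtain ⟨l, hl, e, he, hle⟩ := C.inner hM hcj
  have hcomm : l * e = e * l := Subgroup.mem_centralizer_iff.1 he l hl
  have he2 : e * e = 1 := by
    have h1 : (l * l) * (e * e) = 1 := by
      rw [hle] at hx
      rw [← hx]
      calc l * l * (e * e) = l * (l * e) * e := by group
        _ = l * (e * l) * e := by rw [hcomm]
        _ = l * e * (l * e) := by group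
    have h2 : l * l ∈ (c.1 ⊔ (x • c).1) ⊓ Subgroup.centralizer ((c.1 ⊔ (x • c).1 : Subgroup G) : Set G) :=
      ⟨mul_mem hl hl, by
        show l * l ∈ Subgroup.centralizer _
        rw [eq_inv_of_mul_eq_one_left h1]; exact inv_mem (mul_mem he he)⟩
    rw [C.inf_centralizer hM, Subgroup.mem_bot] at h2
    rwa [h2, one_mul] at h1
  have he1 : e = 1 := by
    obtain ⟨g, hg, hgM⟩ := C.block_trans hM htM
    have hmem : g⁻¹ * e * g ∈ Subgroup.centralizer (C.L : Set G) := by
      refine Subgroup.mem_centralizer_iff.2 fun m hm => ?_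
      have hm' : g * m * g⁻¹ ∈ c.1 ⊔ (x • c).1 := hgM ▸ mem_cj.mpr (by simpa [mul_assoc] using hm)
      have := Subgroup.mem_centralizer_iff.1 he _ hm'
      calc m * (g⁻¹ * e * g) = g⁻¹ * (g * m * g⁻¹ * e) * g := by group
        _ = g⁻¹ * (e * (g * m * g⁻¹)) * g := by rw [this]
        _ = g⁻¹ * e * g * m := by group
    have h1 : orderOf (g⁻¹ * e * g) ∣ 2 := orderOf_dvd_of_pow_eq_one (by
      rw [pow_two]
      calc g⁻¹ * e * g * (g⁻¹ * e * g) = g⁻¹ * (e * e) * g := by group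
        _ = 1 := by rw [he2]; group)
    have h2 := Subgroup.orderOf_dvd_natCard _ hmem
    have h3 : orderOf (g⁻¹ * e * g) = 1 := by
      rcases (Nat.dvd_prime Nat.prime_two).1 h1 with h | h
      · exact h
      · rw [h] at h2
        exact absurd (even_iff_two_dvd.2 h2) (Nat.not_even_iff_odd.2 hv)
    rw [orderOf_eq_one_iff] at h3
    calc e = g * (g⁻¹ * e * g) * g⁻¹ := by group
      _ = 1 := by rw [h3]; group
  have h9 : x = l := by rw [hle, he1, mul_one]
  exact (congrArg (fun z => z ∈ c.1 ⊔ (x • c).1) h9).mpr hl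

theorem inv_mem_line (hv : Odd C.v) {x : G} (hx : Inv C x) {c : S.Pt} (hc : C.t • c = c) :
    x ∈ c.1 ⊔ (x • c).1 :=
  (mem_line C hv (sq_eq_one hx.1) hx.2.1 hc (fpf C hx hc)).2.2

/-- The line of `c` and `x • c` is the block. -/
theorem line_eq {M : Subgroup G} (hM : JLine S M) (htM : C.t ∈ M) {x : G} (hxM : x ∈ M)
    (hx : Inv C x) {c : S.Pt} (hc : C.t • c = c) (hcM : c.1 ≤ M) : c.1 ⊔ (x • c).1 = M :=
  C.pair_eq hM htM hc (smul_fixed C hx.2.1 hc) hcM (JLine.smul_le hxM hcM)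
    (Ne.symm (fpf C hx hc))

theorem cent_mem {x : G} (hx : x ∈ C.L) (hxt : x * C.t = C.t * x) :
    x ∈ C.L ⊓ Subgroup.centralizer ({C.t} : Set G) :=
  ⟨hx, Subgroup.mem_centralizer_singleton_iff.2 hxt⟩

/-- Thirty involutions in each block. -/
theorem card_block {M : Subgroup G} (hM : JLine S M) (htM : C.t ∈ M) :
    Nat.card {x : G // Inv C x ∧ x ∈ M} = 30 := by
  obtain ⟨g, hg, hgM⟩ := C.block_trans hM htM
  obtain ⟨e, he⟩ := C.cent_iso
  rw [← a5_count, ← Nat.card_eq_fintype_card]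
  have hg' : g⁻¹ * C.t = C.t * g⁻¹ := Commute.inv_left hg
  let T : ↥(C.L ⊓ Subgroup.centralizer ({C.t} : Set G)) :=
    ⟨C.t, C.t_mem, Subgroup.mem_centralizer_singleton_iff.2 rfl⟩
  have hTx : ∀ z : ↥(C.L ⊓ Subgroup.centralizer ({C.t} : Set G)),
      (z : G) * C.t = C.t * z := fun z => Subgroup.mem_centralizer_singleton_iff.1 z.2.2
  have key : ∀ z : ↥(C.L ⊓ Subgroup.centralizer ({C.t} : Set G)),
      (orderOf (z : G) = 2 ∧ (z : G) ≠ C.t) ↔
        e z * e z = 1 ∧ e z ≠ 1 ∧ e z ≠ (Multiplicative.ofAdd 1, 1) := by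
    intro z
    rw [← he, ← map_mul]
    simp only [e.map_eq_one_iff, ne_eq, e.injective.eq_iff]
    constructor
    · rintro ⟨h2, hne⟩
      exact ⟨Subtype.ext (sq_eq_one h2), fun h1 => by simp [h1] at h2,
        fun hT => hne (congrArg Subtype.val hT)⟩
    · rintro ⟨h2, h1, hne⟩
      exact ⟨orderOf_two (congrArg Subtype.val h2) fun h => h1 (Subtype.ext h),
        fun h => hne (Subtype.ext h)⟩
  refine Nat.card_congr
    { toFun := fun x => ⟨e ⟨g⁻¹ * x.1 * g, ?_⟩, ?_⟩
      invFun := fun q => ⟨g * (e.symm q.1 : G) * g⁻¹, ?_, ?_⟩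
      left_inv := fun x => ?_
      right_inv := fun q => ?_ }
  · have h := inv_conj C x.2.1 hg'
    rw [inv_inv] at h
    refine cent_mem C ?_ h.2.1
    have h2 : (x.1 : G) ∈ cj g C.L := by rw [hgM]; exact x.2.2
    exact mem_cj.1 h2
  · have h := inv_conj C x.2.1 hg'
    rw [inv_inv] at h
    exact (key _).1 ⟨h.1, h.2.2.1⟩
  · have h := (key (e.symm q.1)).2 (by rw [e.apply_symm_apply]; exact q.2)
    exact inv_conj C ⟨h.1, hTx _, h.2, C.L, C.line, C.t_mem, (e.symm q.1).2.1⟩ hg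
  · rw [← hgM]; exact ⟨_, (e.symm q.1).2.1, rfl⟩
  · apply Subtype.ext
    show g * (e.symm (e ⟨g⁻¹ * x.1 * g, _⟩) : G) * g⁻¹ = x.1
    rw [e.symm_apply_apply]
    group
  · apply Subtype.ext
    show e ⟨g⁻¹ * (g * (e.symm q.1 : G) * g⁻¹) * g, _⟩ = q.1
    rw [← e.eq_symm_apply]
    apply Subtype.ext
    group

/-- All these involutions are conjugate to `w` up to `t`. -/
theorem one_class {w : G} (hwL : w ∈ C.L) (hw : Inv C w) {x : G} (hx : Inv C x) :
    ∃ h : G, h * C.t = C.t * h ∧ (h * x * h⁻¹ = w ∨ h * x * h⁻¹ = w * C.t) := by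
  obtain ⟨ho, hxt, hne, M, hM, htM, hxM⟩ := hx
  obtain ⟨g, hg, hgM⟩ := C.block_trans hM htM
  have hg' : g⁻¹ * C.t = C.t * g⁻¹ := Commute.inv_left hg
  have hx' := inv_conj C ⟨ho, hxt, hne, M, hM, htM, hxM⟩ hg'
  rw [inv_inv] at hx'
  have hxL : g⁻¹ * x * g ∈ C.L := by rw [← hgM, mem_cj] at hxM; exact hxM
  obtain ⟨e, he⟩ := C.cent_iso
  let X := e ⟨_, cent_mem C hxL hx'.2.1⟩
  let W := e ⟨_, cent_mem C hwL hw.2.1⟩
  have key : ∀ (z : G) (hz : z ∈ C.L) (hzI : Inv C z),
      (e ⟨z, cent_mem C hz hzI.2.1⟩).2 * (e ⟨z, cent_mem C hz hzI.2.1⟩).2 = 1 ∧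
        (e ⟨z, cent_mem C hz hzI.2.1⟩).2 ≠ 1 := by
    intro z hz hzI
    refine ⟨?_, fun h1 => ?_⟩
    · have : e ⟨z, cent_mem C hz hzI.2.1⟩ * e ⟨z, cent_mem C hz hzI.2.1⟩ = 1 := by
        rw [← map_mul, e.map_eq_one_iff]
        exact Subtype.ext (sq_eq_one hzI.1)
      exact congrArg Prod.snd this
    · have h0 : ∀ a : Multiplicative (ZMod 2), a = 1 ∨ a = Multiplicative.ofAdd 1 := by decide
      rcases h0 (e ⟨z, cent_mem C hz hzI.2.1⟩).1 with h | h
      · have h2 : e ⟨z, cent_mem C hz hzI.2.1⟩ = 1 := Prod.ext h h1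
        rw [e.map_eq_one_iff] at h2
        have h3 : z = 1 := congrArg Subtype.val h2
        have := hzI.1
        rw [h3, orderOf_one] at this
        exact absurd this (by norm_num)
      · have h2 : e ⟨z, cent_mem C hz hzI.2.1⟩ = (Multiplicative.ofAdd 1, 1) := Prod.ext h h1
        rw [← he] at h2
        exact hzI.2.2.1 (congrArg Subtype.val (e.injective h2))
  obtain ⟨hX2, hX1⟩ := key _ hxL hx'
  obtain ⟨hW2, hW1⟩ := key _ hwL hw
  obtain ⟨k, hk⟩ := a5_conj X.2 W.2 hX2 hX1 hW2 hW1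
  let K := e.symm (1, k)
  have hK : (K : G) * C.t = C.t * K := Subgroup.mem_centralizer_singleton_iff.1 K.2.2
  refine ⟨K * g⁻¹, ?_, ?_⟩
  · rw [mul_assoc, hg', ← mul_assoc, hK, mul_assoc]
  have h0 : ∀ a b : Multiplicative (ZMod 2), a = b ∨ a = b * Multiplicative.ofAdd 1 := by decide
  have hval : (K * g⁻¹ : G) * x * (K * g⁻¹ : G)⁻¹ = ((K * ⟨_, cent_mem C hxL hx'.2.1⟩ * K⁻¹ :
      ↥(C.L ⊓ Subgroup.centralizer ({C.t} : Set G))) : G) := by
    push_cast
    group
  rw [hval]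
  have heK : e (K * ⟨_, cent_mem C hxL hx'.2.1⟩ * K⁻¹) = (X.1, W.2) := by
    rw [map_mul, map_mul, map_inv, e.apply_symm_apply]
    refine Prod.ext ?_ hk
    show 1 * X.1 * 1⁻¹ = X.1
    rw [one_mul, inv_one, mul_one]
  rcases h0 X.1 W.1 with h | h
  · left
    have : e (K * ⟨_, cent_mem C hxL hx'.2.1⟩ * K⁻¹) = W := by rw [heK, h]
    exact congrArg Subtype.val (e.injective this)
  · right
    have : e (K * ⟨_, cent_mem C hxL hx'.2.1⟩ * K⁻¹) =
        e (⟨_, cent_mem C hwL hw.2.1⟩ * ⟨C.t, C.t_mem, Subgroup.mem_centralizer_singleton_iff.2 rfl⟩) := by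
      rw [heK, map_mul, he]
      refine Prod.ext h ?_
      show W.2 = W.2 * 1
      rw [mul_one]
    exact congrArg Subtype.val (e.injective this)

theorem map_cj' {H : Type u} [Group H] (f : H →* G) (x : H) (Q : Subgroup H) :
    (cj x Q).map f = cj (f x) (Q.map f) := by
  rw [cj, cj, Subgroup.map_map, Subgroup.map_map]
  congr 1
  ext y
  simp

theorem card_point (c : S.Pt) : Nat.card ↥c.1 = 11 := by
  obtain ⟨g, hg⟩ := c.2
  rw [← hg, ← S.card_P]
  exact (Nat.card_congr (S.P.equivMapOfInjective _ (MulAut.conj g).injective).toEquiv).symm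

/-- The subgroups of order eleven of a `J₁` line are points. -/
theorem is_point {M : Subgroup G} (hM : JLine S M) {A : Subgroup ↥M} (hA : Nat.card ↥A = 11) :
    A.map M.subtype ∈ S.pts := by
  obtain ⟨c, d, -, hMe, hJ⟩ := hM
  have hcM : c.1 ≤ M := hMe ▸ le_sup_left
  have hB : Nat.card ↥(c.1.subgroupOf M) = 11 := by
    rw [Nat.card_congr (Subgroup.subgroupOfEquivOfLe hcM).toEquiv, card_point]
  have hsyl : ∀ D : Subgroup ↥M, Nat.card ↥D = 11 → ∃ T : Sylow 11 ↥M, (T : Subgroup ↥M) = D := by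
    intro D hD
    obtain ⟨T, hT⟩ := (IsPGroup.of_card (n := 1) (by simpa using hD) :
      IsPGroup 11 ↥D).exists_le_sylow
    refine ⟨T, (Subgroup.eq_of_le_of_card_ge hT ?_).symm⟩
    obtain ⟨k, hk⟩ := IsPGroup.iff_card.mp T.isPGroup'
    have hdvd : 11 ^ k ∣ Nat.card ↥M := hk ▸ Subgroup.card_subgroup_dvd_card _
    have hk1 : k ≤ 1 := by
      by_contra hk2
      have h2 : 11 ^ 2 ∣ Nat.card ↥M := (Nat.pow_dvd_pow 11 (by omega)).trans hdvd
      rw [j1_card hJ] at h2
      norm_num at h2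
    rw [hk, hD]
    calc 11 ^ k ≤ 11 ^ 1 := Nat.pow_le_pow_right (by norm_num) hk1
      _ = 11 := pow_one _
  obtain ⟨T, hT⟩ := hsyl _ hB
  obtain ⟨U, hU⟩ := hsyl _ hA
  obtain ⟨x, hx⟩ := MulAction.exists_smul_eq ↥M T U
  obtain ⟨g, hg⟩ := c.2
  refine ⟨x * g, ?_⟩
  show cj ((x : G) * g) S.P = _
  have hAx : A = cj x (c.1.subgroupOf M) := by
    rw [← hT, ← hU, ← hx, Sylow.coe_subgroup_smul]
    rfl
  rw [← cj_cj, show cj g S.P = c.1 from hg, hAx, map_cj', Subgroup.map_subgroupOf_eq_of_le hcM]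
  rfl

/-- The agreeing pairs of a block. -/
theorem card_agree {M : Subgroup G} (hM : JLine S M) (htM : C.t ∈ M) {w : G} (hwM : w ∈ M)
    (hw : Inv C w) :
    Nat.card {q : S.Pt × G // q.1.1 ≤ M ∧ C.t • q.1 = q.1 ∧ (Inv C q.2 ∧ q.2 ∈ M) ∧
      q.2 • q.1 = w • q.1} = 56 := by
  have hJ : Cfsg.Spor.IsoJ1 ↥M := by obtain ⟨_, _, _, _, h⟩ := hM; exact h
  rw [← j1_agree_count hJ (t := (⟨C.t, htM⟩ : ↥M)) (w := (⟨w, hwM⟩ : ↥M))
    (by rw [← Subgroup.orderOf_coe]; exact C.order_t) (by rw [← Subgroup.orderOf_coe]; exact hw.1)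
    (Subtype.ext hw.2.1) (fun e => hw.2.2.1 (congrArg Subtype.val e))]
  have hmap : ∀ (c : S.Pt), c.1 ≤ M → ∀ x : ↥M,
      (cj x (c.1.subgroupOf M)).map M.subtype = (x.1 • c).1 := fun c hc x => by
    rw [map_cj', Subgroup.map_subgroupOf_eq_of_le hc]; rfl
  refine Nat.card_congr (Equiv.ofBijective (fun q =>
    ⟨(q.1.1.1.subgroupOf M, ⟨q.1.2, q.2.2.2.1.2⟩), ?_⟩) ⟨?_, ?_⟩)
  · obtain ⟨⟨c, g⟩, hcM, hct, ⟨hgI, hgM⟩, heq⟩ := q
    refine ⟨?_, ?_, ?_, Subtype.ext hgI.2.1, fun e => hgI.2.2.1 (congrArg Subtype.val e), ?_⟩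
    · rw [Nat.card_congr (Subgroup.subgroupOfEquivOfLe hcM).toEquiv, card_point]
    · apply Subgroup.map_injective M.subtype_injective
      rw [hmap c hcM, Subgroup.map_subgroupOf_eq_of_le hcM]
      exact congrArg Subtype.val hct
    · rw [← Subgroup.orderOf_coe]; exact hgI.1
    · apply Subgroup.map_injective M.subtype_injective
      rw [hmap c hcM, hmap c hcM]
      exact congrArg Subtype.val heq
  · rintro ⟨⟨c, g⟩, hcM, _⟩ ⟨⟨c', g'⟩, hcM', _⟩ h
    simp only [Subtype.mk.injEq, Prod.mk.injEq] at h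
    obtain ⟨h1, h2⟩ := h
    have h3 := congrArg (Subgroup.map M.subtype) h1
    rw [Subgroup.map_subgroupOf_eq_of_le hcM, Subgroup.map_subgroupOf_eq_of_le hcM'] at h3
    exact Subtype.ext (Prod.ext (Subtype.ext h3) h2)
  · rintro ⟨⟨A, g⟩, hA, htA, hgo, hgt, hgne, hgA⟩
    let c : S.Pt := ⟨A.map M.subtype, is_point hM hA⟩
    have hcM : c.1 ≤ M := Subgroup.map_subtype_le _
    have hAc : c.1.subgroupOf M = A := Subgroup.comap_map_eq_self_of_injective M.subtype_injective A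
    refine ⟨⟨(c, g.1), hcM, Subtype.ext ?_, ⟨⟨?_, congrArg Subtype.val hgt,
      fun e => hgne (Subtype.ext e), M, hM, htM, g.2⟩, g.2⟩, Subtype.ext ?_⟩, ?_⟩
    · show cj (M.subtype ⟨C.t, htM⟩) (A.map M.subtype) = A.map M.subtype
      rw [← map_cj', htA]
    · rw [Subgroup.orderOf_coe]; exact hgo
    · show cj (M.subtype g) (A.map M.subtype) = cj (M.subtype ⟨w, hwM⟩) (A.map M.subtype)
      rw [← map_cj', ← map_cj', hgA]
    · exact Subtype.ext (Prod.ext hAc rfl)

/-- The points of a block. -/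
theorem card_points {M : Subgroup G} (hM : JLine S M) (htM : C.t ∈ M) :
    Nat.card {c : S.Pt // c.1 ≤ M ∧ C.t • c = c} = 12 :=
  C.fix_twelve hM htM C.order_t

theorem actsAs_pow {x : G} {A : Subgroup G} {i : ℕ} (h : ActsAs x A i) :
    ∀ j : ℕ, ActsAs (x ^ j) A (i ^ j) := by
  intro j
  induction j with
  | zero => intro a _; simp
  | succ j ih =>
    intro a ha
    have e : x ^ (j + 1) * a * (x ^ (j + 1))⁻¹ = x ^ j * (x * a * x⁻¹) * (x ^ j)⁻¹ := by
      rw [pow_succ, mul_inv_rev]; simp only [mul_assoc]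
    rw [e, h a ha, ← conj_pow, ih a ha, ← pow_mul, pow_succ]

theorem card_sigma_const {α : Type*} {β : Type*} [Finite α] [Finite β] (f : α → β) {n : ℕ}
    (h : ∀ b, Nat.card {a // f a = b} = n) : Nat.card α = Nat.card β * n := by
  classical
  haveI := Fintype.ofFinite β
  rw [← Nat.card_congr (Equiv.sigmaFiberEquiv f), Nat.card_sigma]
  simp [h, Nat.card_eq_fintype_card]

end Count

set_option maxHeartbeats 2000000 in
open Count in
theorem Conf.u_eq_one (C : Conf S) (hv : Odd C.v) : C.u = 1 := by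
  classical
  obtain ⟨b, y, w, hba, hbL, hbt, hyL, hyo, hyt, hya, hyb, ⟨i₀, hi₀, hi₀1, hi₀5⟩, hwL, hwo, hwt,
    hwa, hwb, hwy, hstab⟩ := C.exists_axis
  have hwI : Inv C w := ⟨hwo, hwt, fun e => hba (by rw [← hwa, e, C.t_a]), C.L, C.line, C.t_mem, hwL⟩
  let H : Subgroup G := Subgroup.centralizer ({C.t} : Set G)
  have hH : ∀ g : ↥H, (g : G) * C.t = C.t * g := fun g =>
    Subgroup.mem_centralizer_singleton_iff.1 g.2
  let mkH : ∀ g : G, g * C.t = C.t * g → ↥H := fun g hg =>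
    ⟨g, Subgroup.mem_centralizer_singleton_iff.2 hg⟩
  let tH : ↥H := mkH C.t rfl
  let N : Subgroup ↥H := Subgroup.zpowers tH
  haveI hN : N.Normal := ⟨fun n hn g => by
    obtain ⟨k, rfl⟩ := Subgroup.mem_zpowers_iff.1 hn
    have hc : Commute g (tH ^ k) := Commute.zpow_right (Subtype.ext (hH g)) k
    rw [hc.eq, mul_inv_cancel_right]
    exact Subgroup.zpow_mem_zpowers tH k⟩
  let X := ↥H ⧸ N
  let π : ↥H →* X := QuotientGroup.mk' N
  let Ω := {c : S.Pt // C.t • c = c}
  letI actH : MulAction ↥H Ω :=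
    { smul := fun g c => ⟨(g : G) • c.1, smul_fixed C (hH g) c.2⟩
      one_smul := fun c => Subtype.ext (one_smul G c.1)
      mul_smul := fun g g' c => Subtype.ext (mul_smul (g : G) g' c.1) }
  have hker : N ≤ (MulAction.toPermHom ↥H Ω).ker := by
    refine Subgroup.zpowers_le.2 ?_
    exact Equiv.ext fun c => Subtype.ext c.2
  letI actX : MulAction X Ω := MulAction.compHom Ω
    (QuotientGroup.lift N (MulAction.toPermHom ↥H Ω) hker)
  have hact : ∀ (g : ↥H) (c : Ω), (π g • c).1 = (g : G) • c.1 := fun g c => rfl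
  have hπt : π tH = 1 := (QuotientGroup.eq_one_iff _).2 (Subgroup.mem_zpowers _)
  have hπeq : ∀ g g' : ↥H, π g = π g' → (g' : G) = g ∨ (g' : G) = g * C.t := by
    intro g g' h
    have h1 : g⁻¹ * g' ∈ N := QuotientGroup.eq.1 h
    obtain ⟨k, hk⟩ := Subgroup.mem_zpowers_iff.1 h1
    have h2 : (g : G)⁻¹ * g' = C.t ^ k := (congrArg Subtype.val hk).symm
    rcases Int.even_or_odd' k with ⟨m, rfl | rfl⟩
    · left
      rw [zpow_mul, zpow_two, sq_eq_one C.order_t, one_zpow, inv_mul_eq_one] at h2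
      exact h2.symm
    · right
      rw [zpow_add, zpow_mul, zpow_two, sq_eq_one C.order_t, one_zpow, one_mul, zpow_one,
        inv_mul_eq_iff_eq_mul] at h2
      exact h2
  have hInvt : ∀ x, Inv C x → Inv C (x * C.t) := by
    rintro x ⟨ho, hxt, hne, M, hM, htM, hxM⟩
    refine ⟨orderOf_two ?_ ?_, ?_, ?_, M, hM, htM, mul_mem hxM htM⟩
    · calc x * C.t * (x * C.t) = x * (C.t * x) * C.t := by group
        _ = (x * x) * (C.t * C.t) := by rw [← hxt]; group
        _ = 1 := by rw [sq_eq_one ho, sq_eq_one C.order_t, one_mul]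
    · intro e
      exact hne ((eq_inv_of_mul_eq_one_left e).trans
        (inv_eq_of_mul_eq_one_right (sq_eq_one C.order_t)))
    · rw [hxt, mul_assoc, hxt]
    · intro e
      have := mul_right_cancel (e.trans (one_mul C.t).symm)
      rw [this, orderOf_one] at ho
      exact absurd ho (by norm_num)
  let W : ↥H := mkH w hwt
  -- the class of the image of `w`
  have hclass : ∀ x : ↥H, IsConj (π W) (π x) ↔ Inv C x := by
    intro x
    constructor
    · intro h
      obtain ⟨k, hk⟩ := isConj_iff.1 h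
      obtain ⟨h', rfl⟩ := QuotientGroup.mk'_surjective N k
      rw [← map_mul, ← map_inv, ← map_mul] at hk
      have hi : Inv C ((h' : G) * w * (h' : G)⁻¹) := inv_conj C hwI (hH h')
      rcases hπeq _ _ hk with e | e <;> rw [e]
      · exact hi
      · exact hInvt _ hi
    · intro hx
      obtain ⟨h, hh, he⟩ := one_class C hwL hwI hx
      refine IsConj.symm (isConj_iff.2 ⟨π (mkH h hh), ?_⟩)
      rw [← map_mul, ← map_inv, ← map_mul]
      rcases he with he | he
      · exact congrArg π (Subtype.ext he)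
      · rw [show mkH h hh * x * (mkH h hh)⁻¹ = W * tH from Subtype.ext he, map_mul, hπt, mul_one]
  have hlift : ∀ (α : Type u) [Finite α] (P : α → X → Prop),
      Nat.card {q : α × G // Inv C q.2 ∧ ∃ g : ↥H, (g : G) = q.2 ∧ P q.1 (π g)} =
        2 * Nat.card {q : α × X // IsConj (π W) q.2 ∧ P q.1 q.2} := by
    intro α _ P
    rw [mul_comm]
    let F : {q : α × G // Inv C q.2 ∧ ∃ g : ↥H, (g : G) = q.2 ∧ P q.1 (π g)} →
        {q : α × X // IsConj (π W) q.2 ∧ P q.1 q.2} := fun z =>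
      ⟨(z.1.1, π (mkH z.1.2 z.2.1.2.1)), (hclass _).2 z.2.1, by
        obtain ⟨⟨a, x⟩, hx, g, hg, hP⟩ := z
        show P a (π (mkH x hx.2.1))
        rwa [show mkH x hx.2.1 = g from Subtype.ext hg.symm]⟩
    refine card_sigma_const F ?_
    · rintro ⟨⟨a, k⟩, hk, hP⟩
      obtain ⟨g, rfl⟩ := QuotientGroup.mk'_surjective N k
      have hg := (hclass g).1 hk
      have hgt : π (g * tH) = π g := by rw [map_mul, hπt, mul_one]
      have hne : ((a, (g : G)) : α × G) ≠ (a, (g : G) * C.t) := fun e => by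
        have h := congrArg Prod.snd e
        simp only [left_eq_mul] at h
        have := C.order_t
        rw [h, orderOf_one] at this
        exact absurd this (by norm_num)
      rw [← Set.ncard_pair hne, ← Nat.card_coe_set_eq]
      refine Nat.card_congr (Equiv.ofBijective (fun q => ⟨q.1.1, ?_⟩) ⟨?_, ?_⟩)
      · obtain ⟨⟨⟨a', x⟩, hx, hPx⟩, hq⟩ := q
        have hq1 := congrArg Subtype.val hq
        obtain rfl : a' = a := congrArg Prod.fst hq1
        replace hq : π (mkH x hx.2.1) = π g := congrArg Prod.snd hq1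
        rcases hπeq g (mkH x hx.2.1) hq.symm with e | e
        · exact Or.inl (Prod.ext rfl e)
        · exact Or.inr (Prod.ext rfl e)
      · intro q q' e
        exact Subtype.ext (Subtype.ext (congrArg (fun z : ↥({(a, (g : G)), (a, (g : G) * C.t)} :
          Set (α × G)) => z.1) e))
      · rintro ⟨z, rfl | rfl⟩
        · exact ⟨⟨⟨(a, g), hg, g, rfl, hP⟩, Subtype.ext (Prod.ext rfl rfl)⟩, rfl⟩
        · exact ⟨⟨⟨(a, (g : G) * C.t), hInvt _ hg, g * tH, rfl, by rw [hgt]; exact hP⟩,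
            Subtype.ext (Prod.ext rfl hgt)⟩, rfl⟩
  -- involutions in blocks through `a`
  have hInvcard : Nat.card {x : G // Inv C x} = C.u * 30 := by
    refine card_sigma_const (fun x => (⟨C.a.1 ⊔ (x.1 • C.a).1, ?_⟩ : C.Bl)) ?_
    · obtain ⟨hM, htM, -⟩ := mem_line C hv (sq_eq_one x.2.1) x.2.2.1 C.t_a (fpf C x.2 C.t_a)
      exact ⟨hM, le_sup_left, htM⟩
    · rintro ⟨M, hM, haM, htM⟩
      rw [← card_block C hM htM]
      refine Nat.card_congr
        { toFun := fun x => ⟨x.1.1, x.1.2, ?_⟩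
          invFun := fun x => ⟨⟨x.1, x.2.1⟩, Subtype.ext (line_eq C hM htM x.2.2 x.2.1 C.t_a haM)⟩
          left_inv := fun x => rfl
          right_inv := fun x => rfl }
      exact (SetLike.ext_iff.1 (congrArg Subtype.val x.2) _).1 (inv_mem_line C hv x.1.2 C.t_a)
  have hJ : Nat.card {g : X // IsConj (π W) g} = 15 * C.u := by
    have h := hlift PUnit.{u + 1} (fun _ _ => True)
    rw [Nat.card_congr (β := {x : G // Inv C x})
      { toFun := fun q => ⟨q.1.2, q.2.1⟩
        invFun := fun x => ⟨(PUnit.unit, x.1), x.2, mkH x.1 x.2.2.1, rfl, trivial⟩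
        left_inv := fun q => rfl
        right_inv := fun x => rfl },
      Nat.card_congr (α := {q : PUnit.{u + 1} × X // IsConj (π W) q.2 ∧ True})
        (β := {g : X // IsConj (π W) g})
      { toFun := fun q => ⟨q.1.2, q.2.1⟩
        invFun := fun x => ⟨(PUnit.unit, x.1), x.2, trivial⟩
        left_inv := fun q => rfl
        right_inv := fun x => rfl }] at h
    omega
  -- blocks containing `w`
  let line : Ω → Subgroup G := fun c => c.1.1 ⊔ (w • c.1).1
  let K := ↥(Set.range line)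
  have hK : ∀ M : K, JLine S M.1 ∧ C.t ∈ M.1 ∧ w ∈ M.1 := by
    rintro ⟨_, c, rfl⟩
    exact mem_line C hv (sq_eq_one hwo) hwt c.2 (fpf C hwI c.2)
  have hf12 : Nat.card Ω = Nat.card K * 12 := by
    refine card_sigma_const (fun c => (⟨line c, c, rfl⟩ : K)) ?_
    intro M
    obtain ⟨hM, htM, hwM⟩ := hK M
    rw [← card_points C hM htM]
    exact Nat.card_congr
      { toFun := fun c => ⟨c.1.1, le_sup_left.trans (congrArg Subtype.val c.2).le, c.1.2⟩
        invFun := fun c => ⟨⟨c.1, c.2.2⟩, Subtype.ext (line_eq C hM htM hwM hwI c.2.2 c.2.1)⟩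
        left_inv := fun c => rfl
        right_inv := fun c => rfl }
  have hpairs : Nat.card {q : Ω × G // Inv C q.2 ∧ q.2 • q.1.1 = w • q.1.1} = Nat.card K * 56 := by
    let Fp : {q : Ω × G // Inv C q.2 ∧ q.2 • q.1.1 = w • q.1.1} → K :=
      fun z => ⟨line z.1.1, Set.mem_range_self _⟩
    refine card_sigma_const Fp ?_
    intro M
    obtain ⟨hM, htM, hwM⟩ := hK M
    rw [← card_agree C hM htM hwM hwI]
    refine Nat.card_congr
      { toFun := fun q => ⟨(q.1.1.1.1, q.1.1.2), le_sup_left.trans (congrArg Subtype.val q.2).le,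
          q.1.1.1.2, ⟨q.1.2.1, ?_⟩, q.1.2.2⟩
        invFun := fun q => ⟨⟨(⟨q.1.1, q.2.2.1⟩, q.1.2), q.2.2.2.1.1, q.2.2.2.2⟩,
          Subtype.ext (line_eq C hM htM hwM hwI q.2.2.1 q.2.1)⟩
        left_inv := fun q => rfl
        right_inv := fun q => rfl }
    have h := inv_mem_line C hv q.1.2.1 q.1.1.1.2
    rw [q.1.2.2] at h
    exact (SetLike.ext_iff.1 (congrArg Subtype.val q.2) _).1 h
  have hagree : Nat.card {q : Ω × X // IsConj (π W) q.2 ∧ q.2 • q.1 = π W • q.1} * 2 =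
      Nat.card K * 56 := by
    rw [← hpairs, mul_comm, ← hlift Ω (fun c g => g • c = π W • c)]
    refine Nat.card_congr
      { toFun := fun q => ⟨q.1, q.2.1, ?_⟩
        invFun := fun q => ⟨q.1, q.2.1, mkH q.1.2 q.2.1.2.1, rfl, Subtype.ext q.2.2⟩
        left_inv := fun q => rfl
        right_inv := fun q => rfl }
    obtain ⟨g, hg, he⟩ := q.2.2
    rw [← hg]
    exact congrArg Subtype.val he
  have hΩ : Nat.card Ω = 1 + 11 * C.u := C.card_fix
  have huodd : Odd C.u := by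
    rw [Nat.odd_iff]; omega
  -- order of `X`
  haveI : MulAction.IsPretransitive ↥H Ω := ⟨fun c d => by
    obtain ⟨g, hg, hgd⟩ := C.fix_trans c.2 d.2
    exact ⟨mkH g hg, Subtype.ext hgd⟩⟩
  let p : Ω := ⟨C.a, C.t_a⟩
  let q : Ω := ⟨b, hbt⟩
  have hcardH : Nat.card ↥H = (1 + 11 * C.u) * (10 * C.u * C.v) := by
    rw [← Subgroup.index_mul_card (MulAction.stabilizer ↥H p),
      MulAction.index_stabilizer_of_transitive ↥H p, hΩ, ← C.card_stab]
    congr 1
    exact Nat.card_congr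
      { toFun := fun g => ⟨g.1.1, hH g.1, congrArg Subtype.val g.2⟩
        invFun := fun g => ⟨mkH g.1 g.2.1, Subtype.ext g.2.2⟩
        left_inv := fun g => rfl
        right_inv := fun g => rfl }
  have hN2 : Nat.card ↥N = 2 := by
    rw [Nat.card_zpowers, ← Subgroup.orderOf_coe]; exact C.order_t
  have hX : Nat.card X = 5 * (1 + 11 * C.u) * C.u * C.v := by
    have h := Subgroup.card_eq_card_quotient_mul_card_subgroup N
    rw [hcardH, hN2] at h
    have e : (1 + 11 * C.u) * (10 * C.u * C.v) = 5 * (1 + 11 * C.u) * C.u * C.v * 2 := by ring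
    show Nat.card (↥H ⧸ N) = _
    omega
  -- the two-point stabiliser
  let Cst : Subgroup X := MulAction.stabilizer X p ⊓ MulAction.stabilizer X q
  let yH : ↥H := mkH y hyt
  let Y : Subgroup X := Subgroup.zpowers (π yH)
  let V : Subgroup X := ((Subgroup.centralizer (C.L : Set G)).subgroupOf H).map π
  have hVmem : ∀ e : G, e ∈ Subgroup.centralizer (C.L : Set G) → e * C.t = C.t * e := fun e he =>
    (Subgroup.mem_centralizer_iff.1 he C.t C.t_mem).symm
  have hLeq : C.a.1 ⊔ b.1 = C.L :=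
    C.pair_eq C.line C.t_mem C.t_a hbt C.a_le hbL (Ne.symm hba)
  have hVfix : ∀ e ∈ Subgroup.centralizer (C.L : Set G), ∀ c : S.Pt, c.1 ≤ C.L → e • c = c := by
    intro e he c hc
    by_cases h1 : e = 1
    · rw [h1, one_smul]
    · exact (C.centralizer_fix C.line he h1 c).2 hc
  have hCform : ∀ g : ↥H, π g ∈ Cst → ∃ (j : ℕ) (e : ↥H),
      (e : G) ∈ Subgroup.centralizer (C.L : Set G) ∧ π g = π yH ^ j * π e := by
    rintro g ⟨h1, h2⟩
    have hga : (g : G) • C.a = C.a := congrArg Subtype.val h1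
    have hgb : (g : G) • b = b := congrArg Subtype.val h2
    obtain ⟨l, hl, e, he, hge⟩ := C.inner C.line (g := (g : G)) (by
      show C.L.map _ = _
      rw [← hLeq, Subgroup.map_sup]
      exact congrArg₂ (fun x y : Subgroup G => x ⊔ y) (congrArg Subtype.val hga)
        (congrArg Subtype.val hgb))
    have hlt : l * C.t = C.t * l := by
      have h := hH g
      rw [hge, mul_assoc, hVmem e he, ← mul_assoc, ← mul_assoc C.t] at h
      exact mul_right_cancel h
    have hla : l • C.a = C.a := by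
      rw [hge, mul_smul, hVfix e he C.a C.a_le] at hga; exact hga
    obtain ⟨i, j, hij⟩ := hstab l hl hlt hla
    refine ⟨j, mkH e (hVmem e he), he, ?_⟩
    rw [show g = tH ^ i * yH ^ j * mkH e (hVmem e he) from Subtype.ext (by
      rw [hge, hij]; rfl), map_mul, map_mul, map_pow, hπt, one_pow, one_mul, map_pow]
  have hy5 : π yH ^ 5 = 1 := by
    rw [← map_pow, show yH ^ 5 = 1 from Subtype.ext (by
      show y ^ 5 = 1
      rw [← hyo]; exact pow_orderOf_eq_one y), map_one]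
  have hyp : π yH • p = p := Subtype.ext hya
  have hyq : π yH • q = q := Subtype.ext hyb
  have hYC : Y ≤ Cst := Subgroup.zpowers_le.2 ⟨hyp, hyq⟩
  have hVC : V ≤ Cst := by
    rintro _ ⟨e, he, rfl⟩
    exact ⟨Subtype.ext (hVfix e he C.a C.a_le), Subtype.ext (hVfix e he b hbL)⟩
  have hyne : π yH ≠ 1 := by
    intro h
    rcases hπeq _ _ (h.trans (map_one π).symm) with e | e
    · have e' : (1 : G) = y := e
      rw [← e', orderOf_one] at hyo
      exact absurd hyo (by norm_num)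
    · have e' : (1 : G) = y * C.t := e
      have h5 : orderOf y = orderOf C.t := by
        rw [eq_inv_of_mul_eq_one_left e'.symm, orderOf_inv]
      rw [hyo, C.order_t] at h5
      exact absurd h5 (by norm_num)
  have hYcard : Nat.card ↥Y = 5 := by
    rw [Nat.card_zpowers]
    exact orderOf_eq_prime (hp := ⟨by norm_num⟩) hy5 hyne
  have hVinj : ∀ e e' : ↥H, (e : G) ∈ Subgroup.centralizer (C.L : Set G) →
      (e' : G) ∈ Subgroup.centralizer (C.L : Set G) → π e = π e' → e = e' := by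
    intro e e' he he' h
    rcases hπeq e e' h with h1 | h1
    · exact Subtype.ext h1.symm
    · exfalso
      have h2 : C.t ∈ C.L ⊓ Subgroup.centralizer (C.L : Set G) := by
        refine Subgroup.mem_inf.2 ⟨C.t_mem, ?_⟩
        rw [eq_inv_mul_of_mul_eq h1.symm]
        exact mul_mem (inv_mem he) he'
      rw [C.inf_centralizer C.line, Subgroup.mem_bot] at h2
      have h3 := C.order_t
      rw [h2, orderOf_one] at h3
      exact absurd h3 (by norm_num)
  have hVcard : Nat.card ↥V = C.v := by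
    refine (Nat.card_congr (Equiv.ofBijective
      (fun e : ↥(Subgroup.centralizer (C.L : Set G)) =>
        (⟨π (mkH e.1 (hVmem e.1 e.2)), mkH e.1 (hVmem e.1 e.2), e.2, rfl⟩ : ↥V)) ⟨?_, ?_⟩)).symm
    · intro e e' h
      exact Subtype.ext (congrArg (fun z : ↥H => (z : G))
        (hVinj (mkH e.1 (hVmem e.1 e.2)) (mkH e'.1 (hVmem e'.1 e'.2)) e.2 e'.2
          (congrArg Subtype.val h)))
    · rintro ⟨_, e, he, rfl⟩
      exact ⟨⟨e, he⟩, rfl⟩
  have hcommH : ∀ e : G, e ∈ Subgroup.centralizer (C.L : Set G) → ∀ l ∈ C.L, l * e = e * l :=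
    fun e he l hl => Subgroup.mem_centralizer_iff.1 he l hl
  have hcomm : ∀ y' ∈ Y, ∀ x ∈ V, y' * x = x * y' := by
    rintro y' hy' _ ⟨e, he, rfl⟩
    obtain ⟨k, rfl⟩ := Subgroup.mem_zpowers_iff.1 hy'
    have hc : Commute (π yH) (π e) :=
      (show Commute yH e from Subtype.ext (hcommH e he y hyL)).map π
    exact (hc.zpow_left k).eq
  -- elements outside `V` fix two points only
  have hfix : ∀ s ∈ Cst, s ∉ V → ∀ c : Ω, s • c = c ↔ c = p ∨ c = q := by
    intro s hs hsV c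
    refine ⟨fun hc => ?_, by rintro (rfl | rfl); exacts [hs.1, hs.2]⟩
    by_contra hne
    push Not at hne
    obtain ⟨g, rfl⟩ := QuotientGroup.mk'_surjective N s
    obtain ⟨j, e, he, hge⟩ := hCform g hs
    change π g ∈ Cst at hs
    change π g ∉ V at hsV
    change π g • c = c at hc
    rw [hge, ← map_pow, ← map_mul] at hc hsV hs
    have h1 : ((yH ^ j * e : ↥H) : G) = y ^ j * e := rfl
    have hi : ActsAs (y ^ j * (e : G)) C.a.1 (i₀ ^ j) := by
      intro x hx
      have hx' : (e : G) * x * (e : G)⁻¹ = x := by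
        rw [← hcommH e he x (C.a_le hx), mul_inv_cancel_right]
      calc y ^ j * (e : G) * x * (y ^ j * (e : G))⁻¹
          = y ^ j * ((e : G) * x * (e : G)⁻¹) * (y ^ j)⁻¹ := by group
        _ = x ^ (i₀ ^ j) := by rw [hx']; exact actsAs_pow hi₀ j x hx
    have h3 := C.three_fixed (c := C.a) (d := b) (e := c.1) C.t_a hbt c.2 (Ne.symm hba)
      (fun h => hne.1 (Subtype.ext h.symm)) (fun h => hne.2 (Subtype.ext h.symm))
      (x := y ^ j * (e : G)) (h1 ▸ hH (yH ^ j * e)) (congrArg Subtype.val hs.1)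
      (congrArg Subtype.val hs.2) (congrArg Subtype.val hc) hi
    push_cast at h3
    have h5 : ((i₀ : ZMod 11) ^ j) ^ 5 = 1 := by rw [← pow_mul, mul_comm, pow_mul, hi₀5, one_pow]
    have h6 : (i₀ : ZMod 11) ^ j = 1 := by
      calc (i₀ : ZMod 11) ^ j
          = ((i₀ : ZMod 11) ^ j * (i₀ : ZMod 11) ^ j) * ((i₀ : ZMod 11) ^ j * (i₀ : ZMod 11) ^ j) *
              (i₀ : ZMod 11) ^ j := by rw [h3, one_mul, one_mul]
        _ = ((i₀ : ZMod 11) ^ j) ^ 5 := by ring
        _ = 1 := h5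
    have h7 : orderOf (i₀ : ZMod 11) = 5 := orderOf_eq_prime (hp := ⟨by norm_num⟩) hi₀5 hi₀1
    obtain ⟨k, rfl⟩ : 5 ∣ j := h7 ▸ orderOf_dvd_of_pow_eq_one h6
    refine hsV ?_
    rw [map_mul, map_pow, pow_mul, hy5, one_pow, one_mul]
    exact ⟨e, he, rfl⟩
  have hYV : Y ⊓ V = ⊥ := by
    refine (Subgroup.eq_bot_iff_forall _).2 fun s hs => ?_
    haveI : Fact (Nat.card ↥Y).Prime := ⟨hYcard.symm ▸ (by norm_num)⟩
    by_contra h1
    have hle : Y ≤ V := by
      rcases (V.subgroupOf Y).eq_bot_or_eq_top_of_prime_card with h | h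
      · have h2 : (⟨s, hs.1⟩ : ↥Y) ∈ V.subgroupOf Y := hs.2
        rw [h, Subgroup.mem_bot] at h2
        exact absurd (congrArg Subtype.val h2) h1
      · exact Subgroup.subgroupOf_eq_top.1 h
    obtain ⟨e, he, hey⟩ := hle (Subgroup.mem_zpowers (π yH))
    rcases hπeq _ _ hey with h2 | h2
    · have : y ∈ C.L ⊓ Subgroup.centralizer (C.L : Set G) := ⟨hyL, by
        rw [show y = (e : G) from h2]; exact he⟩
      rw [C.inf_centralizer C.line, Subgroup.mem_bot] at this
      rw [this, orderOf_one] at hyo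
      exact absurd hyo (by norm_num)
    · have : (e : G) ∈ C.L ⊓ Subgroup.centralizer (C.L : Set G) := Subgroup.mem_inf.2 ⟨by
        rw [← mul_inv_eq_of_eq_mul (show y = (e : G) * C.t from h2)]
        exact mul_mem hyL (inv_mem C.t_mem), he⟩
      rw [C.inf_centralizer C.line, Subgroup.mem_bot] at this
      have h3 : y = C.t := by rw [show y = (e : G) * C.t from h2, this, one_mul]
      rw [h3, C.order_t] at hyo
      exact absurd hyo (by norm_num)
  have hCcard : Nat.card ↥Cst = 5 * C.v := by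
    rw [← hYcard, ← hVcard, ← Nat.card_prod]
    refine (Nat.card_congr (Equiv.ofBijective
      (fun z : ↥Y × ↥V => (⟨z.1 * z.2, mul_mem (hYC z.1.2) (hVC z.2.2)⟩ : ↥Cst)) ⟨?_, ?_⟩)).symm
    · rintro ⟨y₁, v₁⟩ ⟨y₂, v₂⟩ h
      have h' : (y₁ : X) * v₁ = y₂ * v₂ := congrArg Subtype.val h
      have h2 : (y₂ : X)⁻¹ * y₁ ∈ Y ⊓ V := Subgroup.mem_inf.2 ⟨mul_mem (inv_mem y₂.2) y₁.2, by
        rw [show (y₂ : X)⁻¹ * y₁ = (v₂ : X) * (v₁ : X)⁻¹ by
          rw [eq_mul_inv_iff_mul_eq, mul_assoc, h', inv_mul_cancel_left]]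
        exact mul_mem v₂.2 (inv_mem v₁.2)⟩
      rw [hYV, Subgroup.mem_bot, inv_mul_eq_one] at h2
      have h4 : y₂ = y₁ := Subtype.ext h2
      subst h4
      exact Prod.ext rfl (Subtype.ext (mul_left_cancel h'))
    · rintro ⟨s, hs⟩
      obtain ⟨g, rfl⟩ := QuotientGroup.mk'_surjective N s
      obtain ⟨j, e, he, hge⟩ := hCform g hs
      exact ⟨(⟨π yH ^ j, pow_mem (Subgroup.mem_zpowers _) j⟩, ⟨π e, e, he, rfl⟩),
        Subtype.ext hge.symm⟩
  -- swapping members of the class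
  have hswap : ∀ g : X, IsConj (π W) g → g • p = q → ∃ k ∈ Y, g = π W * k := by
    intro g hg hgp
    obtain ⟨x, rfl⟩ := QuotientGroup.mk'_surjective N g
    have hxI := (hclass x).1 hg
    have hxa : (x : G) • C.a = b := congrArg Subtype.val hgp
    have hxL : (x : G) ∈ C.L := by
      have h := inv_mem_line C hv hxI C.t_a
      rwa [hxa, hLeq] at h
    have hwx : (w * (x : G)) • C.a = C.a := by rw [mul_smul, hxa, hwb]
    obtain ⟨i, j, hij⟩ := hstab (w * x) (mul_mem hwL hxL) (hH (W * x)) hwx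
    refine ⟨π yH ^ j, pow_mem (Subgroup.mem_zpowers _) j, ?_⟩
    show π x = _
    rw [show x = W * (tH ^ i * yH ^ j) from Subtype.ext (by
      show (x : G) = w * (C.t ^ i * y ^ j)
      rw [← hij, ← mul_assoc, sq_eq_one hwo, one_mul]), map_mul, map_mul, map_pow, hπt, one_pow,
      one_mul, map_pow]
  have hwYj : ∀ k ∈ Y, IsConj (π W) (π W * k) := by
    intro k hk
    obtain ⟨j, rfl⟩ := Subgroup.mem_zpowers_iff.1 hk
    rw [← map_zpow, ← map_mul, hclass]
    show Inv C (w * y ^ j)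
    have hyj : y ^ j • C.a = C.a :=
      MulAction.mem_stabilizer_iff.1 (zpow_mem (MulAction.mem_stabilizer_iff.2 hya) j)
    have hmove : (w * y ^ j) • C.a = b := by rw [mul_smul, hyj, hwa]
    refine ⟨orderOf_two ?_ ?_, hH (W * yH ^ j), ?_, C.L, C.line, C.t_mem,
      mul_mem hwL (zpow_mem hyL j)⟩
    · have h1 : w * y ^ j * w⁻¹ = (y ^ j)⁻¹ := by rw [← conj_zpow, hwy, inv_zpow]
      have hwi : w⁻¹ = w := inv_eq_of_mul_eq_one_right (sq_eq_one hwo)
      rw [hwi] at h1
      calc w * y ^ j * (w * y ^ j) = (w * y ^ j * w) * y ^ j := by group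
        _ = 1 := by rw [h1, inv_mul_cancel]
    · intro e; rw [e, one_smul] at hmove; exact hba hmove.symm
    · intro e; rw [e, C.t_a] at hmove; exact hba hmove.symm
  have hpq : p ≠ q := fun e => hba (congrArg Subtype.val e).symm
  have hfpf : ∀ g : X, IsConj (π W) g → ∀ c : Ω, g • c ≠ c := by
    intro g hg c e
    obtain ⟨x, rfl⟩ := QuotientGroup.mk'_surjective N g
    exact fpf C ((hclass x).1 hg) c.2 (congrArg Subtype.val e)
  have hsq : ∀ g : X, IsConj (π W) g → g * g = 1 := by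
    intro g hg
    obtain ⟨x, rfl⟩ := QuotientGroup.mk'_surjective N g
    rw [← map_mul, show x * x = 1 from Subtype.ext (sq_eq_one ((hclass x).1 hg).1), map_one]
  have hpair : ∀ s ∈ Cst, s ∉ V → ∀ g : X, IsConj (π W) g → IsConj (π W) (g * s) →
      s ∈ Y ∧ ∃ k ∈ Y, g = π W * k := by
    intro s hs hsV g hg hgs
    have hgi : g⁻¹ = g := inv_eq_of_mul_eq_one_right (hsq g hg)
    have hsg : s * g = g * s⁻¹ := by
      have h := hsq _ hgs
      calc s * g = g⁻¹ * (g * s * (g * s)) * s⁻¹ := by group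
        _ = g * s⁻¹ := by rw [h, hgi, mul_one]
    have hfixed : s • (g • p) = g • p := by
      rw [← mul_smul, hsg, mul_smul, inv_smul_eq_iff.2 (hs.1 : s • p = p).symm]
    have hgp : g • p = q := ((hfix s hs hsV (g • p)).1 hfixed).resolve_left (hfpf g hg p)
    obtain ⟨k, hk, hgk⟩ := hswap g hg hgp
    obtain ⟨k', hk', hgk'⟩ := hswap (g * s) hgs (by rw [mul_smul, hs.1, hgp])
    refine ⟨?_, k, hk, hgk⟩
    rw [hgk, mul_assoc] at hgk'
    rw [show s = k⁻¹ * k' by rw [← mul_left_cancel hgk', inv_mul_cancel_left]]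
    exact mul_mem (inv_mem hk) hk'
  have hWW : IsConj (π W) (π W) := IsConj.refl _
  refine block_equation (X := X) (Ω := Ω) (fun c d => ?_) C.u (1 + 11 * C.u) C.v hv C.u_mod huodd
    rfl hΩ hX (π W) (orderOf_eq_prime (by rw [pow_two]; exact hsq _ hWW) ?_) (hfpf _ hWW) hJ (by omega) p q hpq Y V Cst
    hYcard hVcard hCcard hYC hVC hYV hcomm hfix (fun g h1 h2 => ⟨h1, h2⟩) (π W) hWW
    (Subtype.ext hwa) (Subtype.ext hwb) ?_ ?_ ?_ ?_
  · obtain ⟨g, hg⟩ := MulAction.exists_smul_eq ↥H c d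
    exact ⟨π g, hg⟩
  · intro e; exact hfpf _ hWW p (by rw [e, one_smul])
  · intro k hk
    obtain ⟨j, rfl⟩ := Subgroup.mem_zpowers_iff.1 hk
    rw [← conj_zpow, ← map_inv, ← map_mul, ← map_mul,
      show W * yH * W⁻¹ = yH⁻¹ from Subtype.ext hwy, map_inv, inv_zpow]
  · rintro _ ⟨e, he, rfl⟩
    exact ((show Commute W e from Subtype.ext (hcommH e he w hwL)).map π).eq
  · intro k hk hk1
    have hkV : k ∉ V := fun h => hk1 (by
      have : k ∈ Y ⊓ V := ⟨hk, h⟩
      rwa [hYV, Subgroup.mem_bot] at this)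
    rw [← hYcard]
    exact Nat.card_congr
      { toFun := fun g => ⟨(π W)⁻¹ * g.1, by
          obtain ⟨k', hk', he⟩ := (hpair k (hYC hk) hkV g.1 g.2.1 g.2.2).2
          rw [he, inv_mul_cancel_left]; exact hk'⟩
        invFun := fun k' => ⟨π W * k'.1, hwYj _ k'.2, by
          rw [mul_assoc]; exact hwYj _ (mul_mem k'.2 hk)⟩
        left_inv := fun g => Subtype.ext (mul_inv_cancel_left _ _)
        right_inv := fun g => Subtype.ext (inv_mul_cancel_left _ _) }
  · intro s hs hsV hsY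
    rw [Nat.card_eq_zero]
    left
    exact ⟨fun g => hsY (hpair s hs hsV g.1 g.2.1 g.2.2).1⟩

end H92.Eleven
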