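import Cfsg.Agent.H92.Eleven.Split
import Cfsg.Agent.H85.BrauerSuzuki

/-!
With more than one block the centraliser of a line has odd order.
-/

set_option autoImplicit false
set_option linter.style.haveILetI false
set_option linter.unusedSectionVars false

namespace H92.Eleven

open H63.Eleven

universe u

variable {G : Type u} [Group G] [Finite G] {S : Sys G}

theorem zmod_mult : ∀ i m : ZMod 11, i ≠ 0 → m ≠ 1 → m ^ 5 = 1 →
    ∃ e : Fin 2, ∃ j : Fin 5, i * (10 ^ (e : ℕ) * m ^ (j : ℕ)) = 1 := by decide +kernel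

theorem acts_ne_zero {x : G} {A : Subgroup G} (hA : Nat.card A = 11) {i : ℕ}
    (h : ActsAs x A i) : (i : ZMod 11) ≠ 0 := fun e => by
  obtain ⟨g, hg, hgo, -⟩ := exists_gen hA
  have h1 := (acts_of_cast hA h (by rw [e, Nat.cast_zero]) : ActsAs x A 0) g hg
  rw [pow_zero, mul_inv_eq_one, mul_eq_left] at h1
  rw [h1, orderOf_one] at hgo
  norm_num at hgo

namespace Conf

variable (C : Conf S)

/-- The centraliser of `a` in the centraliser of `t`. -/
def K0 : Subgroup G :=
  Subgroup.centralizer ({C.t} : Set G) ⊓ Subgroup.centralizer (C.a.1 : Set G)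

theorem k0_comm {g : G} (hg : g ∈ C.K0) : g * C.t = C.t * g :=
  Subgroup.mem_centralizer_singleton_iff.1 hg.1

theorem k0_fix {g : G} (hg : g ∈ C.K0) : g • C.a = C.a := centralizer_smul hg.2 le_rfl

theorem cent_le_k0 (M : C.Bl) : Subgroup.centralizer (M.1 : Set G) ≤ C.K0 := fun e he =>
  ⟨Subgroup.mem_centralizer_singleton_iff.2 (centralizer_comm he M.2.2.2),
    Subgroup.centralizer_le (SetLike.coe_subset_coe.2 M.2.2.1) he⟩

theorem mem_centralizer_of_stab {M : C.Bl} {g : G} (hg : g ∈ C.K0) (hM : cj g M.1 = M.1) :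
    g ∈ Subgroup.centralizer (M.1 : Set G) := by
  obtain ⟨l, hl, e, he, hle⟩ := M.2.1.inner hM
  have hlK : l ∈ C.K0 := by
    have h1 := C.K0.mul_mem hg (C.K0.inv_mem (C.cent_le_k0 M he))
    rwa [hle, mul_inv_cancel_right] at h1
  have hla : l ∈ C.a.1 := M.2.1.centralizer_point M.2.2.1 hl
    fun y hy => (centralizer_comm hlK.2 hy)
  have h2 := C.inverts C.t_a l hla
  rw [← C.k0_comm hlK, mul_inv_cancel_right] at h2
  have h3 : l = 1 := by
    have h4 : l ^ 2 = 1 := by rw [sq]; nth_rw 1 [h2]; exact inv_mul_cancel l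
    have h5 := orderOf_dvd_of_pow_eq_one h4
    have h6 := Subgroup.orderOf_dvd_natCard _ hla
    rw [card_pt S] at h6
    rw [← orderOf_eq_one_iff]
    exact Nat.eq_one_of_dvd_coprimes (by norm_num) h5 h6
  rwa [hle, h3, one_mul]

theorem centralizer_unique {M N : C.Bl} {e : G} (hM : e ∈ Subgroup.centralizer (M.1 : Set G))
    (hN : e ∈ Subgroup.centralizer (N.1 : Set G)) (he : e ≠ 1) : M = N := by
  obtain ⟨M, hM', haM, htM⟩ := M
  obtain ⟨N, hN', haN, htN⟩ := N
  obtain ⟨c, hca, hcM, htc⟩ := C.exists_other hM' htM C.a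
  have hcN : c.1 ≤ N :=
    (C.centralizer_fix hN' hN he c).1 (centralizer_smul hM hcM)
  exact Subtype.ext ((C.pair_eq hM' htM C.t_a htc haM hcM hca.symm).symm.trans
    (C.pair_eq hN' htN C.t_a htc haN hcN hca.symm))

/-- The block `L`. -/
def base : C.Bl := ⟨C.L, C.line, C.a_le, C.t_mem⟩

/-- The image of a block under an element of the stabiliser. -/
def move {g : G} (hg : g ∈ C.K0) (M : C.Bl) : C.Bl :=
  ⟨cj g M.1, M.2.1.conj g, by
    conv_lhs => rw [← (smul_eq_iff S).1 (C.k0_fix hg)]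
    exact Subgroup.map_mono M.2.2.1, C.t_mem_cj (C.k0_comm hg) M.2.2.2⟩

theorem exists_move (M : C.Bl) : ∃ (k : G) (hk : k ∈ C.K0), C.move hk C.base = M := by
  obtain ⟨k, hkt, hka, hk⟩ := C.block_at M
  obtain ⟨b, y, w, -, -, -, hyL, hy5, hyt, hya, -, ⟨m, hm, hm1, hm5⟩, -⟩ := C.exists_axis
  obtain ⟨i, hi⟩ := exists_acts (card_pt S C.a) ((smul_eq_iff S).1 hka)
  obtain ⟨e, j, he⟩ := zmod_mult i m (acts_ne_zero (card_pt S C.a) hi) hm1 hm5
  set r := C.t ^ (e : ℕ) * y ^ (j : ℕ)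
  have hrL : r ∈ C.L := C.L.mul_mem (C.L.pow_mem C.t_mem _) (C.L.pow_mem hyL _)
  have hr : Commute r C.t :=
    Commute.mul_left (Commute.pow_left (Commute.refl C.t) _) (Commute.pow_left hyt _)
  have hk0 : k * r ∈ C.K0 := by
    refine ⟨Subgroup.mem_centralizer_singleton_iff.2 (Commute.mul_left hkt hr).eq, ?_⟩
    refine Subgroup.mem_centralizer_iff.2 fun z hz => ?_
    refine (centralises_iff.2 (acts_of_cast (card_pt S C.a)
      (acts_mul hi (acts_mul (acts_pow ((inverts_iff (card_pt S C.a)).1 (C.inverts C.t_a)) e)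
        (acts_pow hm j))) ?_) z hz).symm
    push_cast
    exact he
  refine ⟨k * r, hk0, Subtype.ext ?_⟩
  show cj (k * r) C.L = M.1
  rw [← cj_cj, cj_self_of_mem hrL, hk]

theorem card_k0 : Nat.card ↥C.K0 = C.u * C.v := by
  refine card_of_fibre (fun g : ↥C.K0 => C.move g.2 C.base) fun M => ?_
  obtain ⟨k, hk, hkM⟩ := C.exists_move M
  have hkM' : cj k C.L = M.1 := congrArg Subtype.val hkM
  rw [Conf.v]
  refine (Nat.card_congr (Equiv.ofBijective
    (fun e : ↥(Subgroup.centralizer (C.L : Set G)) =>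
      (⟨⟨k * e, C.K0.mul_mem hk (C.cent_le_k0 C.base e.2)⟩, Subtype.ext ?_⟩ :
        {g : ↥C.K0 // C.move g.2 C.base = M})) ⟨?_, ?_⟩)).symm
  · show cj (k * (e : G)) C.L = M.1
    have h2 : cj (e : G) C.L = C.L :=
      cj_eq_self_iff.2 (Subgroup.centralizer_le_normalizer _ e.2)
    rw [← cj_cj, h2, hkM']
  · intro e e' h
    exact Subtype.ext (mul_left_cancel (congrArg Subtype.val (congrArg Subtype.val h)))
  · rintro ⟨⟨g, hg⟩, hgM⟩
    have hgM' : cj g C.L = M.1 := congrArg Subtype.val hgM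
    have h1 : k⁻¹ * g ∈ Subgroup.centralizer (C.L : Set G) := by
      refine C.mem_centralizer_of_stab (M := C.base) (C.K0.mul_mem (C.K0.inv_mem hk) hg) ?_
      show cj (k⁻¹ * g) C.L = C.L
      rw [← cj_cj, hgM', ← hkM', cj_cj, inv_mul_cancel, cj_one]
    exact ⟨⟨_, h1⟩, Subtype.ext (Subtype.ext (mul_inv_cancel_left k g))⟩

/-- An element inverting a non-trivial element of a block's centraliser fixes that block. -/
theorem inverter_stab {M : C.Bl} {x g : G} (hg : g ∈ C.K0)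
    (hx : x ∈ Subgroup.centralizer (M.1 : Set G)) (hx1 : x ≠ 1) (hi : g * x * g⁻¹ = x⁻¹) :
    g ∈ Subgroup.centralizer (M.1 : Set G) := by
  have h : C.move hg M = M := by
    refine C.centralizer_unique (e := x⁻¹) ?_ (Subgroup.inv_mem _ hx) (inv_ne_one.2 hx1)
    show x⁻¹ ∈ Subgroup.centralizer ((cj g M.1 : Subgroup G) : Set G)
    rw [cj_centralizer, ← hi]
    exact ⟨x, hx, rfl⟩
  exact C.mem_centralizer_of_stab hg (congrArg Subtype.val h)

theorem invol_unique (hu : C.u ≠ 1) {s₁ s₂ : G}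
    (h₁ : s₁ ∈ Subgroup.centralizer (C.L : Set G))
    (h₂ : s₂ ∈ Subgroup.centralizer (C.L : Set G)) (o₁ : orderOf s₁ = 2) (o₂ : orderOf s₂ = 2) :
    s₁ = s₂ := by
  by_contra hne
  set V := Subgroup.centralizer (C.L : Set G)
  choose k hk hkM using C.exists_move
  have hkM' : ∀ M, cj (k M) C.L = M.1 := fun M => congrArg Subtype.val (hkM M)
  have hconj : ∀ M x, x ∈ V → k M * x * (k M)⁻¹ ∈ Subgroup.centralizer (M.1 : Set G) :=
    fun M x hx => by
      rw [← hkM' M, cj_centralizer]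
      exact ⟨x, hx, rfl⟩
  let s : Fin 2 → G := ![s₁, s₂]
  have hs : ∀ i, s i ∈ V ∧ orderOf (s i) = 2 := by
    intro i; fin_cases i <;> simp [s, *]
  let j : C.Bl → G := fun M => k M * s₁ * (k M)⁻¹
  have hj : ∀ M, j M ∈ Subgroup.centralizer (M.1 : Set G) ∧ j M * j M = 1 ∧ j M ≠ 1 := by
    intro M
    have ho : orderOf (j M) = 2 := by
      rw [show j M = MulAut.conj (k M) s₁ from rfl, MulEquiv.orderOf_eq, o₁]
    exact ⟨hconj M s₁ h₁, sq_of_order_two ho, ne_one_of_orderOf ho (by norm_num)⟩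
  clear_value j
  have hprod : ∀ i M, M ≠ C.base → ∀ N : C.Bl,
      s i * j M ∉ Subgroup.centralizer (N.1 : Set G) := by
    intro i M hM N hx
    have hs1 := ne_one_of_orderOf (hs i).2 (by norm_num)
    have hx1 : s i * j M ≠ 1 := fun e => hM (C.centralizer_unique (e := j M) (hj M).1 (by
      rw [← inv_eq_of_mul_eq_one_right e]
      exact V.inv_mem (hs i).1 : j M ∈ Subgroup.centralizer (C.base.1 : Set G)) (hj M).2.2)
    have hsN : s i ∈ Subgroup.centralizer (N.1 : Set G) := by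
      refine C.inverter_stab (C.cent_le_k0 C.base (hs i).1) hx hx1 ?_
      rw [mul_inv_rev, inv_eq_of_mul_eq_one_right (sq_of_order_two (hs i).2),
        inv_eq_of_mul_eq_one_right (hj M).2.1, ← mul_assoc, sq_of_order_two (hs i).2, one_mul]
    have hjN : j M ∈ Subgroup.centralizer (N.1 : Set G) := by
      have h := Subgroup.mul_mem _ (Subgroup.inv_mem _ hsN) hx
      rwa [inv_mul_cancel_left] at h
    exact hM ((C.centralizer_unique (hj M).1 hjN (hj M).2.2).trans
      (C.centralizer_unique hsN (hs i).1 hs1))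
  let F : Unit ⊕ ((C.Bl × {x : ↥V // x ≠ 1}) ⊕ ({M : C.Bl // M ≠ C.base} × Fin 2)) → ↥C.K0 :=
    Sum.elim (fun _ => 1) (Sum.elim
      (fun p => ⟨k p.1 * p.2.1.1 * (k p.1)⁻¹, C.cent_le_k0 p.1 (hconj p.1 _ p.2.1.2)⟩)
      (fun p => ⟨s p.2 * j p.1.1, C.K0.mul_mem (C.cent_le_k0 C.base (hs p.2).1)
        (C.cent_le_k0 p.1.1 (hj p.1.1).1)⟩))
  have hF : Function.Injective F := by
    refine Function.Injective.sumElim (Function.injective_of_subsingleton _)
      (Function.Injective.sumElim ?_ ?_ ?_) ?_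
    · rintro ⟨M, ⟨x, hx⟩, hx1⟩ ⟨M', ⟨x', hx'⟩, hx1'⟩ e
      have e' : k M * x * (k M)⁻¹ = k M' * x' * (k M')⁻¹ := congrArg Subtype.val e
      obtain rfl : M = M' := C.centralizer_unique (hconj M x hx) (e' ▸ hconj M' x' hx')
        (by rw [Ne, conj_eq_one_iff]; exact fun h => hx1 (Subtype.ext h))
      obtain rfl : x = x' := mul_left_cancel (mul_right_cancel e')
      rfl
    · rintro ⟨⟨M, hM⟩, i⟩ ⟨⟨M', hM'⟩, i'⟩ e
      have e' : s i * j M = s i' * j M' := congrArg Subtype.val e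
      obtain rfl | hi := eq_or_ne i i'
      · have hjj : j M = j M' := mul_left_cancel e'
        obtain rfl : M = M' :=
          C.centralizer_unique (hj M).1 (hjj ▸ (hj M').1) (hj M).2.2
        rfl
      · exfalso
        set x := (s i')⁻¹ * s i
        have hxV : x ∈ V := V.mul_mem (V.inv_mem (hs i').1) (hs i).1
        have hxj : x = j M' * j M := by
          show (s i')⁻¹ * s i = _
          rw [inv_mul_eq_iff_eq_mul, ← mul_assoc, ← e', mul_assoc, (hj M).2.1, mul_one]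
        have hx1 : x ≠ 1 := fun h => by
          have h2 : s i' = s i := inv_mul_eq_one.1 h
          fin_cases i <;> fin_cases i' <;> simp [s] at hi h2 <;>
            first
              | exact hne h2
              | exact hne h2.symm
        refine hM ((C.centralizer_unique (hj M).1 (?_ : j M ∈
          Subgroup.centralizer (C.base.1 : Set G)) (hj M).2.2))
        refine C.inverter_stab (C.cent_le_k0 M (hj M).1) (x := x) hxV hx1 ?_
        rw [hxj, mul_inv_rev (j M'), inv_eq_of_mul_eq_one_right (hj M).2.1,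
          inv_eq_of_mul_eq_one_right (hj M').2.1, mul_assoc, mul_assoc, (hj M).2.1, mul_one]
    · rintro ⟨M, ⟨x, hx⟩, hx1⟩ ⟨⟨M', hM'⟩, i⟩ e
      have e' : k M * x * (k M)⁻¹ = s i * j M' := congrArg Subtype.val e
      exact hprod i M' hM' M (e' ▸ hconj M x hx)
    · rintro ⟨⟩ (⟨M, ⟨x, hx⟩, hx1⟩ | ⟨⟨M', hM'⟩, i⟩) e
      · exact hx1 (Subtype.ext (conj_eq_one_iff.1 (congrArg Subtype.val e).symm))
      · have h' : (1 : G) = s i * j M' := congrArg Subtype.val e
        exact hprod i M' hM' C.base (h' ▸ Subgroup.one_mem _)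
  have h := Nat.card_le_card_of_injective F hF
  have hBl : Nat.card {M : C.Bl // M ≠ C.base} = C.u - 1 := by
    haveI := Fintype.ofFinite C.Bl
    classical
    rw [Conf.u, Nat.card_eq_fintype_card, Nat.card_eq_fintype_card, Fintype.card_subtype_compl,
      Fintype.card_subtype_eq]
  have hV : Nat.card {x : ↥V // x ≠ 1} = C.v - 1 := by
    haveI := Fintype.ofFinite ↥V
    classical
    rw [show C.v = Nat.card ↥V from rfl, Nat.card_eq_fintype_card, Nat.card_eq_fintype_card,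
      Fintype.card_subtype_compl, Fintype.card_subtype_eq]
  rw [Nat.card_sum, Nat.card_sum, Nat.card_prod, Nat.card_prod, hBl, hV, C.card_k0,
    Nat.card_unique, Nat.card_fin] at h
  haveI : Nonempty C.Bl := ⟨C.base⟩
  have hu0 : 1 ≤ C.u := Nat.card_pos
  have hv0 : 1 ≤ C.v := Nat.card_pos
  obtain ⟨w, hw⟩ : ∃ w, C.v = w + 1 := ⟨C.v - 1, by omega⟩
  obtain ⟨q, hq⟩ : ∃ q, C.u = q + 1 := ⟨C.u - 1, by omega⟩
  have hq1 : 1 ≤ q := by omega
  rw [show Nat.card C.Bl = C.u from rfl, hw, hq, Nat.add_sub_cancel, Nat.add_sub_cancel] at h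
  nlinarith [h, hq1]

theorem isolated (hu : C.u ≠ 1) {s : G} (hs : s ∈ Subgroup.centralizer (C.L : Set G))
    (ho : orderOf s = 2) : Cfsg.IsIsolatedInvolution s := by
  refine ⟨ho, fun g hc => ?_⟩
  set x := g * s * g⁻¹
  have hs1 : s ≠ 1 := ne_one_of_orderOf ho (by norm_num)
  have hxo : orderOf x = 2 := by
    rw [show x = MulAut.conj g s from rfl, MulEquiv.orderOf_eq, ho]
  have hxL : cj x C.L = C.L := C.stab_L fun c hc' _ => (C.centralizer_fix C.line hs hs1 _).1 (by
    rw [← mul_smul, hc.eq, mul_smul, centralizer_smul hs hc'])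
  have hxc : ∀ c : S.Pt, x • c = c → Centralises x c.1 := by
    intro c hxc y hy
    have h1 : s • (g⁻¹ • c) = g⁻¹ • c := by
      rw [eq_inv_smul_iff, ← mul_smul, ← mul_smul]
      exact hxc
    have h2 : (g⁻¹ • c).1 ≤ C.L := (C.centralizer_fix C.line hs hs1 _).1 h1
    have h3 : g⁻¹ * y * (g⁻¹)⁻¹ ∈ C.L := h2 ⟨y, hy, rfl⟩
    have h4 := centralizer_comm hs h3
    rw [inv_inv] at h4
    calc x * y = g * (s * (g⁻¹ * y * g)) * g⁻¹ := by simp only [x]; group
      _ = g * ((g⁻¹ * y * g) * s) * g⁻¹ := by rw [h4]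
      _ = y * x := by simp only [x]; group
  obtain ⟨l, hl, e, he, hle⟩ := C.line.inner hxL
  obtain ⟨hl2, -⟩ := C.line.split_sq hl he (hle ▸ sq_of_order_two hxo)
  by_cases hl1 : l = 1
  · rw [hl1, one_mul] at hle
    exact C.invol_unique hu (hle ▸ he) hs hxo ho
  · exfalso
    have hlo : orderOf l = 2 := orderOf_eq_prime (by rw [sq, hl2]) hl1
    obtain ⟨c, hcL, hlc⟩ := C.line.exists_fix hl hlo
    refine not_inverts_and_centralises ?_ (hxc c ?_)
    · intro y hy
      rw [hle]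
      calc l * e * y * (l * e)⁻¹ = l * (e * y * e⁻¹) * l⁻¹ := by group
        _ = l * y * l⁻¹ := by rw [centralizer_comm he (hcL hy), mul_inv_cancel_right]
        _ = _ := C.line.invol_inverts hl hlo hlc y hy
    · rw [hle, mul_smul, centralizer_smul he hcL, hlc]

theorem odd_v (hu : C.u ≠ 1) : Odd C.v := by
  by_contra hv
  rw [Nat.not_odd_iff_even, even_iff_two_dvd] at hv
  haveI : Fact (Nat.Prime 2) := ⟨Nat.prime_two⟩
  haveI := C.simple
  obtain ⟨⟨s, hs⟩, ho⟩ := exists_prime_orderOf_dvd_card'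
    (G := ↥(Subgroup.centralizer (C.L : Set G))) 2 hv
  rw [Subgroup.orderOf_mk] at ho
  have hcore : Cfsg.pPrimeCore 2 G = ⊥ := by
    refine eq_bot_iff.2 (sSup_le ?_)
    rintro N ⟨hN, hcop⟩
    rcases hN.eq_bot_or_eq_top with h | h
    · exact h.le
    · exfalso
      rw [h, Subgroup.card_top] at hcop
      have h2 : 2 ∣ Nat.card G := ho ▸ orderOf_dvd_natCard s
      have h3 := Nat.eq_one_of_dvd_coprimes hcop h2 dvd_rfl
      norm_num at h3
  have hz := H85.zStar (C.isolated hu hs ho)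
  have hc : s ∈ Subgroup.center G := Subgroup.mem_center_iff.2 fun g => by
    have h1 := hz g
    rw [hcore, Subgroup.mem_bot, mul_inv_eq_one, mul_inv_eq_iff_eq_mul] at h1
    exact h1.symm
  rw [center_eq_bot S C.simple, Subgroup.mem_bot] at hc
  exact ne_one_of_orderOf ho (by norm_num) hc

end Conf

end H92.Eleven
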