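import Cfsg.Agent.H92.Eleven.Split
import Cfsg.Agent.S3239

/-!
A single block: the group is `J₁`.
-/

set_option autoImplicit false
set_option linter.style.haveILetI false
set_option linter.unusedSectionVars false

namespace H92.Eleven

open H63.Eleven

universe u

variable {G : Type u} [Group G] [Finite G] {S : Sys G}

namespace Conf

variable (C : Conf S)

theorem fix_le_of_one (hu : C.u = 1) {c : S.Pt} (hc : C.t • c = c) : c.1 ≤ C.L := by
  by_cases hca : c = C.a
  · exact hca ▸ C.a_le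
  haveI : Subsingleton C.Bl := (Nat.card_eq_one_iff_unique.1 hu).1
  obtain ⟨hM, ht⟩ := C.pair_line C.t_a hc (Ne.symm hca)
  have h := Subsingleton.elim (⟨C.a.1 ⊔ c.1, hM, le_sup_left, ht⟩ : C.Bl)
    ⟨C.L, C.line, C.a_le, C.t_mem⟩
  calc c.1 ≤ C.a.1 ⊔ c.1 := le_sup_right
    _ = C.L := congrArg Subtype.val h

theorem centralizer_le_of_one (hu : C.u = 1) {g : G} (hg : g * C.t = C.t * g) :
    cj g C.L = C.L :=
  C.stab_L fun _ _ htc => C.fix_le_of_one hu (C.fix_smul hg htc)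

theorem conj_mem_of_one (hu : C.u = 1) {g : G}
    (hx : g * C.t * g⁻¹ * C.t = C.t * (g * C.t * g⁻¹)) : g * C.t * g⁻¹ ∈ C.L := by
  set x := g * C.t * g⁻¹
  obtain ⟨l, hl, e, he, hxe⟩ := C.line.inner (C.centralizer_le_of_one hu hx)
  have hx2 : x * x = 1 := sq_of_order_two (C.map g).order_t
  obtain ⟨hl2, -⟩ := C.line.split_sq hl he (hxe ▸ hx2)
  by_cases hl1 : l = 1
  · exfalso
    rw [hl1, one_mul] at hxe
    refine not_inverts_and_centralises (c := C.a)
      ((C.map g).inverts (c := C.a) ?_) ?_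
    · show x • C.a = C.a
      rw [hxe, centralizer_smul he C.a_le]
    · intro y hy
      show x * y = y * x
      rw [hxe]
      exact centralizer_comm he (C.a_le hy)
  · have hlo : orderOf l = 2 := orderOf_eq_prime (by rw [sq, hl2]) hl1
    have h12 := C.line.fix_twelve hl hlo
    rw [← Set.coe_setOf, Nat.card_coe_set_eq] at h12
    obtain ⟨c, hc, d, hd, hcd⟩ := (Set.one_lt_ncard (Set.toFinite _)).1
      (by rw [h12]; norm_num : 1 < Set.ncard _)
    have hfix : ∀ p : S.Pt, p.1 ≤ C.L → l • p = p → (C.map g).t • p = p := fun p hp hlp => by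
      show x • p = p
      rw [hxe, mul_smul, centralizer_smul he hp, hlp]
    exact sup_le hc.1 hd.1
      ((C.map g).pair_line (hfix c hc.1 hc.2) (hfix d hd.1 hd.2) hcd).2

theorem normalizes_of_one (hu : C.u = 1) {g : G}
    (hx : g * C.t * g⁻¹ * C.t = C.t * (g * C.t * g⁻¹)) : cj g C.L = C.L := by
  have hxL := C.conj_mem_of_one hu hx
  have h12 := C.line.fix_twelve hxL (C.map g).order_t
  rw [← Set.coe_setOf, Nat.card_coe_set_eq] at h12
  obtain ⟨c, hc, d, hd, hcd⟩ := (Set.one_lt_ncard (Set.toFinite _)).1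
    (by rw [h12]; norm_num : 1 < Set.ncard _)
  have hu' : ∀ p : S.Pt, (C.map g).t • p = p → p.1 ≤ cj g C.L := fun p hp => by
    have h1 : C.t • (g⁻¹ • p) = g⁻¹ • p := by
      rw [eq_inv_smul_iff, ← mul_smul, ← mul_smul]
      exact hp
    have h2 : (g • g⁻¹ • p).1 ≤ cj g C.L := Subgroup.map_mono (C.fix_le_of_one hu h1)
    rwa [smul_inv_smul] at h2
  exact ((C.map g).pair_eq (C.map g).line (C.map g).t_mem hc.2 hd.2 (hu' c hc.2) (hu' d hd.2)
    hcd).symm.trans ((C.map g).pair_eq (M := C.L) C.line hxL hc.2 hd.2 hc.1 hd.1 hcd)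

theorem closure_eq_of_one (hu : C.u = 1) :
    Subgroup.closure {x : G | ∃ g : G, x = g * C.t * g⁻¹ ∧ x * C.t = C.t * x} =
      C.L ⊓ Subgroup.centralizer ({C.t} : Set G) := by
  refine le_antisymm ((Subgroup.closure_le _).2 ?_) ?_
  · rintro _ ⟨g, rfl, hg⟩
    exact ⟨C.conj_mem_of_one hu hg, Subgroup.mem_centralizer_singleton_iff.2 hg⟩
  · rintro x ⟨hxL, hxt⟩
    have hto : orderOf (⟨C.t, C.t_mem⟩ : ↥C.L) = 2 := by rw [Subgroup.orderOf_mk, C.order_t]
    have h : (⟨x, hxL⟩ : ↥C.L) ∈ Subgroup.centralizer ({⟨C.t, C.t_mem⟩} : Set ↥C.L) :=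
      Subgroup.mem_centralizer_singleton_iff.2
        (Subtype.ext (Subgroup.mem_centralizer_singleton_iff.1 hxt))
    rw [← j1_cent_gen C.line.iso hto] at h
    have h2 := Subgroup.mem_map_of_mem C.L.subtype h
    rw [MonoidHom.map_closure] at h2
    refine Subgroup.closure_mono ?_ h2
    rintro _ ⟨z, ⟨hz, hzt⟩, rfl⟩
    obtain ⟨g, hg⟩ := j1_invol_conj C.line.iso hto hz
    exact ⟨g, (congrArg Subtype.val hg).symm, congrArg Subtype.val hzt⟩

theorem exists_sylow_of_one (hu : C.u = 1) : ∃ T : Sylow 2 G, C.t ∈ (T : Subgroup G) ∧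
    ∀ s ∈ (T : Subgroup G), s * C.t = C.t * s := by
  haveI : Fact (Nat.Prime 2) := ⟨Nat.prime_two⟩
  set Ct := Subgroup.centralizer ({C.t} : Set G)
  have htC : C.t ∈ Ct := Subgroup.mem_centralizer_singleton_iff.2 rfl
  obtain ⟨T, hT⟩ := (IsPGroup.of_card (n := 1) (by
    rw [Nat.card_zpowers, Subgroup.orderOf_mk, C.order_t, pow_one]) :
    IsPGroup 2 ↥(Subgroup.zpowers (⟨C.t, htC⟩ : ↥Ct))).exists_le_sylow
  set TG : Subgroup G := (T : Subgroup ↥Ct).map Ct.subtype
  have htT : C.t ∈ TG := ⟨⟨C.t, htC⟩, hT (Subgroup.mem_zpowers _), rfl⟩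
  have hTC : TG ≤ Ct := Subgroup.map_subtype_le _
  obtain ⟨T', hT'⟩ := (T.isPGroup'.map Ct.subtype).exists_le_sylow
  suffices hEq : (T' : Subgroup G) = TG from
    ⟨T', hEq ▸ htT, fun s hs => Subgroup.mem_centralizer_singleton_iff.1 (hTC (hEq ▸ hs))⟩
  by_contra hne
  -- the orders of the normaliser of `L` and of the centraliser of `t`
  set N := Subgroup.normalizer (C.L : Set G)
  have hN : Nat.card ↥N = 175560 * C.v := by
    rw [C.line.card_prod (H := C.L) le_rfl fun g => ?_, C.line.card]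
    · rfl
    refine ⟨fun hg => C.line.inner (cj_eq_self_iff.2 hg), ?_⟩
    rintro ⟨l, hl, e, he, rfl⟩
    exact N.mul_mem (Subgroup.le_normalizer hl) (Subgroup.centralizer_le_normalizer _ he)
  have hC : Nat.card ↥Ct = 120 * C.v := by
    rw [C.line.card_prod (H := C.L ⊓ Ct) inf_le_left fun g => ?_, C.card_cent]
    · rfl
    constructor
    · intro hg
      have hgt := Subgroup.mem_centralizer_singleton_iff.1 hg
      obtain ⟨l, hl, e, he, rfl⟩ := C.line.inner (C.centralizer_le_of_one hu hgt)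
      refine ⟨l, ⟨hl, ?_⟩, e, he, rfl⟩
      have h1 := Ct.mul_mem hg (Ct.inv_mem
        (Subgroup.mem_centralizer_singleton_iff.2 (centralizer_comm he C.t_mem) : e ∈ Ct))
      rwa [mul_inv_cancel_right] at h1
    · rintro ⟨l, ⟨-, hl⟩, e, he, rfl⟩
      exact Ct.mul_mem hl (Subgroup.mem_centralizer_singleton_iff.2 (centralizer_comm he C.t_mem))
  -- an element of `T'` normalising `TG` outside it
  haveI : Group.IsNilpotent ↥(T' : Subgroup G) := T'.isPGroup'.isNilpotent
  have hlt : TG.subgroupOf (T' : Subgroup G) < ⊤ := lt_top_iff_ne_top.2 fun e =>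
    hne (le_antisymm (Subgroup.subgroupOf_eq_top.1 e) hT')
  obtain ⟨⟨g, hgT'⟩, hgN, hgT⟩ := SetLike.exists_of_lt
    (Group.normalizerCondition_of_isNilpotent _ hlt)
  have hgt : g * C.t * g⁻¹ ∈ TG :=
    Subgroup.mem_subgroupOf.1 ((Subgroup.mem_normalizer_iff.1 hgN ⟨C.t, hT' htT⟩).1
      (Subgroup.mem_subgroupOf.2 htT))
  have hgL : g ∈ N := cj_eq_self_iff.1
    (C.normalizes_of_one hu (Subgroup.mem_centralizer_singleton_iff.1 (hTC hgt)))
  set H : Subgroup G := (T' : Subgroup G) ⊓ N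
  have hTH : TG ≤ H := le_inf hT' fun x hx => cj_eq_self_iff.1
    (C.centralizer_le_of_one hu (Subgroup.mem_centralizer_singleton_iff.1 (hTC hx)))
  obtain ⟨m, hm⟩ := IsPGroup.iff_card.1 (T'.isPGroup'.to_le (inf_le_left : H ≤ T'))
  have hdvd : 2 ^ m ∣ 120 * C.v := by
    have h1 : 2 ^ m ∣ 1463 * (120 * C.v) := by
      rw [show 1463 * (120 * C.v) = Nat.card ↥N by rw [hN]; ring, ← hm]
      exact Subgroup.card_dvd_of_le (inf_le_right : H ≤ N)
    exact (Nat.Coprime.pow_left m (by norm_num)).dvd_of_dvd_mul_left h1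
  have hT2 : Nat.card ↥TG = 2 ^ (Nat.card ↥Ct).factorization 2 := by
    rw [Subgroup.card_map_of_injective Ct.subtype_injective, Sylow.card_eq_multiplicity]
  have hle : Nat.card ↥H ≤ Nat.card ↥TG := by
    rw [hT2, hm]
    refine Nat.pow_le_pow_right (by norm_num) ?_
    exact (Nat.Prime.pow_dvd_iff_le_factorization Nat.prime_two Nat.card_pos.ne').1
      (by rw [hC]; exact hdvd)
  have hgH : g ∈ H := ⟨hgT', hgL⟩
  rw [← Subgroup.eq_of_le_of_card_ge hTH hle] at hgH
  exact hgT (Subgroup.mem_subgroupOf.2 hgH)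

theorem iso_of_u_one (hu : C.u = 1) : Cfsg.Spor.IsoJ1 G := by
  obtain ⟨T, htT, hc⟩ := C.exists_sylow_of_one hu
  obtain ⟨e, -⟩ := C.cent_iso
  obtain ⟨f⟩ := Cfsg.Agent.S3239.result C.t C.order_t T htT hc
    ⟨(MulEquiv.subgroupCongr (C.closure_eq_of_one hu)).trans e⟩
  haveI := C.simple
  have htop : Subgroup.normalClosure ({C.t} : Set G) = ⊤ := by
    refine (Subgroup.normalClosure_normal.eq_bot_or_eq_top).resolve_left fun h => ?_
    have h1 : C.t ∈ Subgroup.normalClosure ({C.t} : Set G) :=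
      Subgroup.subset_normalClosure (Set.mem_singleton _)
    rw [h, Subgroup.mem_bot] at h1
    exact ne_one_of_orderOf C.order_t (by norm_num) h1
  exact ⟨(Subgroup.topEquiv.symm.trans (MulEquiv.subgroupCongr htop.symm)).trans f⟩

end Conf

end H92.Eleven
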