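import Cfsg.Agent.H92.Eleven.Axis

/-!
Geometry of the configuration.
-/

set_option autoImplicit false
set_option linter.style.haveILetI false
set_option linter.unusedSectionVars false

namespace H92.Eleven

open H63.Eleven

universe u

variable {G : Type u} [Group G] [Finite G]

namespace Conf

variable {S : Sys G} (C : Conf S)

include C in
theorem inner {M : Subgroup G} (hM : JLine S M) {g : G} (hg : cj g M = M) :
    ∃ l ∈ M, ∃ e ∈ Subgroup.centralizer (M : Set G), g = l * e := hM.inner hg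

include C in
theorem inf_centralizer {M : Subgroup G} (hM : JLine S M) :
    M ⊓ Subgroup.centralizer (M : Set G) = ⊥ := hM.inf_centralizer

include C in
theorem centralizer_fix {M : Subgroup G} (hM : JLine S M) {e : G}
    (he : e ∈ Subgroup.centralizer (M : Set G)) (he1 : e ≠ 1) (c : S.Pt) :
    e • c = c ↔ c.1 ≤ M := hM.centralizer_fix C.simple C.sub he he1 c

include C in
theorem fix_twelve {M : Subgroup G} (hM : JLine S M) {x : G} (hx : x ∈ M) (ho : orderOf x = 2) :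
    Nat.card {c : S.Pt // c.1 ≤ M ∧ x • c = c} = 12 := hM.fix_twelve hx ho

/-- The configuration at another fixed point of a line containing `t`. -/
@[simps] def shift {M : Subgroup G} (hM : JLine S M) (ht : C.t ∈ M) {c : S.Pt} (hc : c.1 ≤ M)
    (htc : C.t • c = c) : Conf S where
  simple := C.simple
  sub := C.sub
  L := M
  line := hM
  t := C.t
  t_mem := ht
  order_t := C.order_t
  a := c
  a_le := hc
  t_a := htc

/-- Every line of two fixed points of `t` is `J₁` and contains `t`. -/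
theorem pair_line {c d : S.Pt} (hc : C.t • c = c) (hd : C.t • d = d) (hcd : c ≠ d) :
    JLine S (c.1 ⊔ d.1) ∧ C.t ∈ c.1 ⊔ d.1 := by
  by_cases hca : c = C.a
  · subst hca
    obtain ⟨k, -, -, -, h1, h2⟩ := C.line_at hd hcd.symm
    exact ⟨h1, h2⟩
  · obtain ⟨k, -, -, -, h1, h2⟩ := C.line_at hc hca
    obtain ⟨k', -, -, -, h3, h4⟩ := (C.shift h1 h2 (le_sup_right : c.1 ≤ _) hc).line_at hd hcd.symm
    exact ⟨h3, h4⟩

theorem exists_other {M : Subgroup G} (hM : JLine S M) (ht : C.t ∈ M) (e : S.Pt) :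
    ∃ d : S.Pt, d ≠ e ∧ d.1 ≤ M ∧ C.t • d = d := by
  have h := hM.fix_twelve ht C.order_t
  rw [← Set.coe_setOf, Nat.card_coe_set_eq] at h
  obtain ⟨d, hd, hde⟩ := Set.exists_ne_of_one_lt_ncard (by rw [h]; norm_num : 1 < Set.ncard _) e
  exact ⟨d, hde, hd⟩

/-- A block is a conjugate of `L` by an element of the stabiliser. -/
theorem block_at (M : C.Bl) :
    ∃ k : G, k * C.t = C.t * k ∧ k • C.a = C.a ∧ cj k C.L = M.1 := by
  obtain ⟨M, hM, haM, ht⟩ := M
  obtain ⟨d, hda, hdM, htd⟩ := C.exists_other hM ht C.a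
  obtain ⟨k, hkt, hka, hk, -⟩ := C.line_at htd hda
  exact ⟨k, hkt, hka, hk.trans (C.pair_eq hM ht C.t_a htd haM hdM hda.symm)⟩

theorem card_fix : Nat.card {c : S.Pt // C.t • c = c} = 1 + 11 * C.u := by
  have hline : ∀ c : {c : S.Pt // C.t • c = c ∧ c ≠ C.a},
      JLine S (C.a.1 ⊔ c.1.1) ∧ C.a.1 ≤ C.a.1 ⊔ c.1.1 ∧ C.t ∈ C.a.1 ⊔ c.1.1 := fun c =>
    ⟨(C.pair_line C.t_a c.2.1 c.2.2.symm).1, le_sup_left,
      (C.pair_line C.t_a c.2.1 c.2.2.symm).2⟩
  let f : {c : S.Pt // C.t • c = c ∧ c ≠ C.a} → C.Bl := fun c => ⟨C.a.1 ⊔ c.1.1, hline c⟩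
  have h1 : Nat.card {c : S.Pt // C.t • c = c ∧ c ≠ C.a} = C.u * 11 := by
    refine card_of_fibre f fun ⟨M, hM, haM, htM⟩ => ?_
    have h12 := hM.fix_twelve htM C.order_t
    rw [← Set.coe_setOf, Nat.card_coe_set_eq] at h12
    have h11 : ({c : S.Pt | c.1 ≤ M ∧ C.t • c = c} \ {C.a}).ncard = 11 := by
      rw [Set.ncard_diff_singleton_of_mem (show C.a ∈ {c : S.Pt | c.1 ≤ M ∧ C.t • c = c} from
        ⟨haM, C.t_a⟩), h12]
    rw [← h11, ← Nat.card_coe_set_eq]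
    refine Nat.card_congr ⟨fun c => ⟨c.1.1, ⟨?_, c.1.2.1⟩, c.1.2.2⟩,
      fun c => ⟨⟨c.1, c.2.1.2, c.2.2⟩,
        Subtype.ext (C.pair_eq hM htM C.t_a c.2.1.2 haM c.2.1.1 (Ne.symm c.2.2))⟩,
      fun c => rfl, fun c => rfl⟩
    calc c.1.1.1 ≤ C.a.1 ⊔ c.1.1.1 := le_sup_right
      _ = M := congrArg Subtype.val c.2
  rw [← Set.coe_setOf, Nat.card_coe_set_eq] at h1 ⊢
  have h2 := Set.ncard_diff_singleton_add_one
    (show C.a ∈ {c : S.Pt | C.t • c = c} from C.t_a)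
  have h3 : {c : S.Pt | C.t • c = c} \ {C.a} = {c : S.Pt | C.t • c = c ∧ c ≠ C.a} := by
    ext c; simp
  rw [h3, h1] at h2
  omega

theorem fix_trans {c d : S.Pt} (hc : C.t • c = c) (hd : C.t • d = d) :
    ∃ g : G, g * C.t = C.t * g ∧ g • c = d := by
  by_cases hcd : c = d
  · exact ⟨1, by simp, by rw [one_smul, hcd]⟩
  obtain ⟨hM, ht⟩ := C.pair_line hc hd hcd
  have hcM : c.1 ≤ c.1 ⊔ d.1 := le_sup_left
  have hdM : d.1 ≤ c.1 ⊔ d.1 := le_sup_right
  obtain ⟨k, hk, hkc⟩ := j1_cent_trans hM.iso (t := ⟨C.t, ht⟩)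
    (by rw [Subgroup.orderOf_mk, C.order_t])
    (by rw [card_subgroupOf hcM, card_pt S]) (by rw [card_subgroupOf hdM, card_pt S])
    ((smul_fix_iff ht hcM).1 hc) ((smul_fix_iff ht hdM).1 hd)
  exact ⟨k, congrArg Subtype.val hk, (smul_eq_iff S).2 (cj_eq_of_subgroupOf hcM hdM hkc)⟩

theorem block_trans {M : Subgroup G} (hM : JLine S M) (ht : C.t ∈ M) :
    ∃ g : G, g * C.t = C.t * g ∧ cj g C.L = M := by
  obtain ⟨c, hcM, htc⟩ := hM.exists_fix ht C.order_t
  obtain ⟨g, hgt, hgc⟩ := C.fix_trans htc C.t_a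
  have ha : C.a.1 ≤ cj g M := by
    rw [← (smul_eq_iff S).1 hgc]
    exact Subgroup.map_mono hcM
  obtain ⟨k, hkt, -, hk⟩ := C.block_at ⟨cj g M, hM.conj g, ha, C.t_mem_cj hgt ht⟩
  refine ⟨g⁻¹ * k, ?_, ?_⟩
  · have h1 : g⁻¹ * C.t = C.t * g⁻¹ := by
      rw [inv_mul_eq_iff_eq_mul, ← mul_assoc, hgt, mul_inv_cancel_right]
    rw [mul_assoc, hkt, ← mul_assoc, h1, mul_assoc]
  · rw [← cj_cj, hk, cj_cj, inv_mul_cancel, cj_one]

theorem u_mod : C.u % 5 = 1 := by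
  haveI : Fact (Nat.Prime 5) := ⟨by norm_num⟩
  obtain ⟨b, y, w, hba, hbL, htb, hyL, hy5, hyt, hya, hyb, -⟩ :=
    C.line.axis C.t_mem C.order_t C.a_le C.t_a
  obtain ⟨i, hi, hi1, hi5⟩ := C.line.mult_five hyL C.a_le hy5 hya
  have h := H66.Eleven.ncard_modEq_fix (g := y) (p := 5) (by rw [← hy5, pow_orderOf_eq_one])
    {c : S.Pt | C.t • c = c} (fun c hc => C.fix_smul hyt hc)
  have h2 : {c : S.Pt | c ∈ {c : S.Pt | C.t • c = c} ∧ y • c = c} = {C.a, b} := by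
    ext c
    refine ⟨fun hc => C.fix_two C.t_a htb hc.1 hba.symm hyt hya hyb hc.2 hi hi1 hi5, ?_⟩
    rintro (rfl | rfl)
    · exact ⟨C.t_a, hya⟩
    · exact ⟨htb, hyb⟩
  have h3 := C.card_fix
  rw [← Set.coe_setOf, Nat.card_coe_set_eq] at h3
  rw [h2, Set.ncard_pair hba.symm, h3] at h
  unfold Nat.ModEq at h
  omega

theorem cent_iso : ∃ e : ↥(C.L ⊓ Subgroup.centralizer ({C.t} : Set G)) ≃*
    Multiplicative (ZMod 2) × ↥(alternatingGroup (Fin 5)),
    e ⟨C.t, C.t_mem, Subgroup.mem_centralizer_singleton_iff.2 rfl⟩ =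
      (Multiplicative.ofAdd 1, 1) := by
  obtain ⟨e₀⟩ := j1_cent_equiv C.line.iso (t := ⟨C.t, C.t_mem⟩)
    (by rw [Subgroup.orderOf_mk, C.order_t])
  let r : ↥(C.L ⊓ Subgroup.centralizer ({C.t} : Set G)) ≃*
      ↥(Subgroup.centralizer ({(⟨C.t, C.t_mem⟩ : ↥C.L)} : Set ↥C.L)) :=
    { toFun := fun x => ⟨⟨x.1, x.2.1⟩, Subgroup.mem_centralizer_singleton_iff.2
        (Subtype.ext (Subgroup.mem_centralizer_singleton_iff.1 x.2.2))⟩
      invFun := fun x => ⟨x.1.1, x.1.2, Subgroup.mem_centralizer_singleton_iff.2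
        (congrArg Subtype.val (Subgroup.mem_centralizer_singleton_iff.1 x.2))⟩
      left_inv := fun _ => rfl
      right_inv := fun _ => rfl
      map_mul' := fun _ _ => rfl }
  refine ⟨r.trans e₀, ?_⟩
  set z := (r.trans e₀) ⟨C.t, C.t_mem, Subgroup.mem_centralizer_singleton_iff.2 rfl⟩
  have hz1 : z ≠ 1 := fun e => by
    have h1 := congrArg Subtype.val ((MulEquiv.map_eq_one_iff _).1 e)
    exact ne_one_of_orderOf C.order_t (by norm_num) h1
  have hzc : ∀ q, z * q = q * z := fun q => by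
    obtain ⟨x, rfl⟩ := (r.trans e₀).surjective q
    rw [← map_mul, ← map_mul]
    exact congrArg _ (Subtype.ext (Subgroup.mem_centralizer_singleton_iff.1 x.2.2).symm)
  have h2 : z.2 = 1 := (show ∀ σ : ↥(alternatingGroup (Fin 5)), (∀ τ, σ * τ = τ * σ) → σ = 1 by
    decide +kernel) z.2 fun τ => congrArg Prod.snd (hzc (1, τ))
  have h1 : z.1 = Multiplicative.ofAdd 1 := by
    rcases (show ∀ a : Multiplicative (ZMod 2), a = 1 ∨ a = Multiplicative.ofAdd 1 by decide) z.1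
      with e | e
    · exact absurd (Prod.ext e h2) hz1
    · exact e
  exact Prod.ext h1 h2

theorem card_cent : Nat.card ↥(C.L ⊓ Subgroup.centralizer ({C.t} : Set G)) = 120 := by
  obtain ⟨e, -⟩ := C.cent_iso
  rw [Nat.card_congr e.toEquiv, Nat.card_prod, Nat.card_eq_fintype_card (α := Multiplicative _),
    Nat.card_eq_fintype_card (α := ↥(alternatingGroup (Fin 5)))]
  decide +kernel

/-- The stabiliser of `a` in `C_L(t)` has order ten. -/
theorem card_line_stab :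
    Nat.card {l : G // l ∈ C.L ∧ l * C.t = C.t * l ∧ l • C.a = C.a} = 10 := by
  set CL := C.L ⊓ Subgroup.centralizer ({C.t} : Set G)
  have hCL : ∀ l : ↥CL, (l : G) * C.t = C.t * l := fun l =>
    Subgroup.mem_centralizer_singleton_iff.1 l.2.2
  let f : ↥CL → {c : S.Pt // c.1 ≤ C.L ∧ C.t • c = c} := fun l =>
    ⟨(l : G) • C.a, JLine.smul_le l.2.1 C.a_le, C.fix_smul (hCL l) C.t_a⟩
  have h1 : Nat.card ↥CL = 12 * Nat.card {l : G // l ∈ C.L ∧ l * C.t = C.t * l ∧ l • C.a = C.a} := by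
    rw [← C.line.fix_twelve C.t_mem C.order_t]
    refine card_of_fibre f fun ⟨c, hcL, htc⟩ => ?_
    obtain ⟨g, hg, hgc⟩ := j1_cent_trans C.line.iso (t := ⟨C.t, C.t_mem⟩)
      (by rw [Subgroup.orderOf_mk, C.order_t])
      (by rw [card_subgroupOf C.a_le, card_pt S]) (by rw [card_subgroupOf hcL, card_pt S])
      ((smul_fix_iff C.t_mem C.a_le).1 C.t_a) ((smul_fix_iff C.t_mem hcL).1 htc)
    have hga : (g : G) • C.a = c := (smul_eq_iff S).2 (cj_eq_of_subgroupOf C.a_le hcL hgc)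
    have hgC : (g : G) ∈ CL :=
      ⟨g.2, Subgroup.mem_centralizer_singleton_iff.2 (congrArg Subtype.val hg)⟩
    refine Nat.card_congr ⟨fun l => ⟨(g : G)⁻¹ * l.1, ?_⟩, fun l => ⟨⟨(g : G) * l.1, ?_⟩, ?_⟩,
      fun l => by simp, fun l => by simp⟩
    · have h2 := CL.mul_mem (CL.inv_mem hgC) l.1.2
      refine ⟨h2.1, Subgroup.mem_centralizer_singleton_iff.1 h2.2, ?_⟩
      rw [mul_smul, show ((l.1 : ↥CL) : G) • C.a = c from congrArg Subtype.val l.2,
        inv_smul_eq_iff, hga]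
    · exact CL.mul_mem hgC ⟨l.2.1, Subgroup.mem_centralizer_singleton_iff.2 l.2.2.1⟩
    · exact Subtype.ext (show ((g : G) * l.1) • C.a = c by rw [mul_smul, l.2.2.2, hga])
  rw [C.card_cent] at h1
  omega

theorem card_stab : Nat.card {g : G // g * C.t = C.t * g ∧ g • C.a = C.a} = 10 * C.u * C.v := by
  let f : {g : G // g * C.t = C.t * g ∧ g • C.a = C.a} → C.Bl := fun g =>
    ⟨cj g.1 C.L, C.line.conj g.1, by rw [← (smul_eq_iff S).1 g.2.2]; exact Subgroup.map_mono C.a_le,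
      C.t_mem_cj g.2.1 C.t_mem⟩
  have hV : ∀ e ∈ Subgroup.centralizer (C.L : Set G), e * C.t = C.t * e ∧ e • C.a = C.a :=
    fun e he => ⟨(Subgroup.mem_centralizer_iff.1 he _ C.t_mem).symm,
      (smul_eq_iff S).2 (mem_normalizer_of_acts (card_pt S C.a)
        (centralises_iff.1 fun x hx => (Subgroup.mem_centralizer_iff.1 he x (C.a_le hx)).symm))⟩
  have key : Nat.card {g : G // g * C.t = C.t * g ∧ g • C.a = C.a} = C.u * (10 * C.v) := by
    refine card_of_fibre f fun M => ?_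
    obtain ⟨k, hkt, hka, hk⟩ := C.block_at M
    rw [← C.card_line_stab, Conf.v, ← Nat.card_prod]
    have hmem : ∀ p : {l : G // l ∈ C.L ∧ l * C.t = C.t * l ∧ l • C.a = C.a} ×
        ↥(Subgroup.centralizer (C.L : Set G)),
        (k * (p.1.1 * p.2.1)) * C.t = C.t * (k * (p.1.1 * p.2.1)) ∧
        (k * (p.1.1 * p.2.1)) • C.a = C.a := fun p => by
      constructor
      · rw [mul_assoc, mul_assoc, (hV _ p.2.2).1, ← mul_assoc p.1.1, p.1.2.2.1, ← mul_assoc,
          ← mul_assoc k, hkt]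
        group
      · rw [mul_smul, mul_smul, (hV _ p.2.2).2, p.1.2.2.2, hka]
    have hfib : ∀ p, f ⟨_, hmem p⟩ = M := fun p => by
      refine Subtype.ext ?_
      show cj (k * (p.1.1 * p.2.1)) C.L = M.1
      have h2 : cj p.2.1 C.L = C.L :=
        cj_eq_self_iff.2 (Subgroup.centralizer_le_normalizer _ p.2.2)
      rw [← cj_cj, ← cj_cj, h2, cj_self_of_mem p.1.2.1, hk]
    refine (Nat.card_congr (Equiv.ofBijective (fun p => ⟨⟨_, hmem p⟩, hfib p⟩) ⟨?_, ?_⟩)).symm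
    · intro p q e
      have e' : p.1.1 * p.2.1 = q.1.1 * q.2.1 :=
        mul_left_cancel (congrArg Subtype.val (congrArg Subtype.val e))
      have h3 : q.1.1⁻¹ * p.1.1 = q.2.1 * p.2.1⁻¹ := by
        rw [inv_mul_eq_iff_eq_mul, ← mul_assoc, eq_mul_inv_iff_mul_eq, e']
      have h4 : q.1.1⁻¹ * p.1.1 ∈ C.L ⊓ Subgroup.centralizer (C.L : Set G) :=
        ⟨C.L.mul_mem (C.L.inv_mem q.1.2.1) p.1.2.1,
          h3 ▸ Subgroup.mul_mem _ q.2.2 (Subgroup.inv_mem _ p.2.2)⟩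
      rw [C.line.inf_centralizer, Subgroup.mem_bot] at h4
      have h5 : p.1.1 = q.1.1 := (inv_mul_eq_one.1 h4).symm
      refine Prod.ext (Subtype.ext h5) (Subtype.ext ?_)
      rw [h5] at e'
      exact mul_left_cancel e'
    · rintro ⟨⟨g, hgt, hga⟩, hgM⟩
      have hgL : cj (k⁻¹ * g) C.L = C.L := by
        rw [← cj_cj, show cj g C.L = M.1 from congrArg Subtype.val hgM, ← hk, cj_cj,
          inv_mul_cancel, cj_one]
      obtain ⟨l, hl, e, he, hle⟩ := C.line.inner hgL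
      have hkt' : k⁻¹ * C.t = C.t * k⁻¹ := by
        rw [inv_mul_eq_iff_eq_mul, ← mul_assoc, hkt, mul_inv_cancel_right]
      have hl' : l = k⁻¹ * g * e⁻¹ := by rw [hle, mul_inv_cancel_right]
      have he' := hV e⁻¹ (Subgroup.inv_mem _ he)
      refine ⟨(⟨l, hl, ?_, ?_⟩, ⟨e, he⟩), Subtype.ext (Subtype.ext ?_)⟩
      · rw [hl', mul_assoc _ e⁻¹, he'.1, ← mul_assoc, mul_assoc k⁻¹ g, hgt, ← mul_assoc, hkt']
        group
      · rw [hl', mul_smul, mul_smul, he'.2, hga, inv_smul_eq_iff, hka]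
      · show k * (l * e) = g
        rw [← hle, mul_inv_cancel_left]
  rw [key]; ring

/-- The axis through `a` in `L`. -/
theorem exists_axis : ∃ (b : S.Pt) (y w : G), b ≠ C.a ∧ b.1 ≤ C.L ∧ C.t • b = b ∧
    y ∈ C.L ∧ orderOf y = 5 ∧ y * C.t = C.t * y ∧ y • C.a = C.a ∧ y • b = b ∧
    (∃ i : ℕ, ActsAs y C.a.1 i ∧ (i : ZMod 11) ≠ 1 ∧ (i : ZMod 11) ^ 5 = 1) ∧
    w ∈ C.L ∧ orderOf w = 2 ∧ w * C.t = C.t * w ∧ w • C.a = b ∧ w • b = C.a ∧
    w * y * w⁻¹ = y⁻¹ ∧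
    ∀ g ∈ C.L, g * C.t = C.t * g → g • C.a = C.a → ∃ i j : ℕ, g = C.t ^ i * y ^ j := by
  obtain ⟨b, y, w, hba, hbL, htb, hyL, hy5, hyt, hya, hyb, hw⟩ :=
    C.line.axis C.t_mem C.order_t C.a_le C.t_a
  obtain ⟨hwL, hwo, hwt, hwa, hwb, hwy⟩ := hw
  refine ⟨b, y, w, hba, hbL, htb, hyL, hy5, hyt, hya, hyb, C.line.mult_five hyL C.a_le hy5 hya,
    hwL, hwo, hwt, hwa, hwb, hwy, fun g hg hgt hga => ?_⟩
  have hc : Commute C.t y := hyt.symm
  have ho : orderOf (C.t * y) = 10 := by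
    rw [hc.orderOf_mul_eq_mul_orderOf_of_coprime (by rw [C.order_t, hy5]; norm_num),
      C.order_t, hy5]
  set Hs : Subgroup G := C.L ⊓ Subgroup.centralizer ({C.t} : Set G) ⊓ MulAction.stabilizer G C.a
  have hcard : Nat.card ↥Hs = 10 := by
    rw [← C.card_line_stab]
    exact Nat.card_congr (Equiv.subtypeEquivRight fun l => by
      simp [Hs, Subgroup.mem_inf, Subgroup.mem_centralizer_singleton_iff, and_assoc])
  have hle : Subgroup.zpowers (C.t * y) ≤ Hs := Subgroup.zpowers_le.2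
    ⟨⟨C.L.mul_mem C.t_mem hyL, Subgroup.mem_centralizer_singleton_iff.2
      (by rw [mul_assoc, hyt])⟩, show (C.t * y) • C.a = C.a by rw [mul_smul, hya, C.t_a]⟩
  have heq := Subgroup.eq_of_le_of_card_ge hle (by rw [hcard, Nat.card_zpowers, ho])
  have hgH : g ∈ Hs := ⟨⟨hg, Subgroup.mem_centralizer_singleton_iff.2 hgt⟩, hga⟩
  rw [← heq] at hgH
  obtain ⟨n, rfl⟩ := (mem_powers_iff_mem_zpowers).2 hgH
  exact ⟨n, n, hc.mul_pow n⟩

/-- The other involutions of `C_L(t)` fix no fixed point of `t`. -/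
theorem invol_fpf {x : G} (hx : x ∈ C.L) (ho : orderOf x = 2) (hxt : x * C.t = C.t * x)
    (hne : x ≠ C.t) {c : S.Pt} (hc : C.t • c = c) : x • c ≠ c := by
  intro hxc
  have hxo : orderOf (x * C.t) = 2 := by
    refine orderOf_eq_prime ?_ fun e => hne ?_
    · rw [sq]
      calc x * C.t * (x * C.t) = x * (C.t * x) * C.t := by group
        _ = x * (x * C.t) * C.t := by rw [hxt]
        _ = x * x * (C.t * C.t) := by group
        _ = 1 := by rw [sq_of_order_two ho, C.t_sq, one_mul]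
    · rw [mul_eq_one_iff_eq_inv.1 e, C.t_inv]
  refine not_inverts_and_centralises
    (C.line.invol_inverts (C.L.mul_mem hx C.t_mem) hxo (by rw [mul_smul, hc, hxc]))
    (centralises_iff.2 (acts_of_cast (card_pt S c) (i := 10 * 10) ?_ (by decide)))
  exact acts_mul ((inverts_iff (card_pt S c)).1 (C.line.invol_inverts hx ho hxc))
    ((inverts_iff (card_pt S c)).1 (C.inverts hc))

end Conf

end H92.Eleven
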