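import Cfsg.Agent.H92.Eleven.Lines
import Cfsg.Agent.H66.Eleven.Basic

/-!
Every line of two fixed points of an involution of a `J₁` line is a conjugate line containing it.
-/

set_option autoImplicit false
set_option linter.style.haveILetI false
set_option linter.unusedSectionVars false

namespace H92.Eleven

open H63.Eleven

universe u

variable {G : Type u} [Group G] [Finite G] {S : Sys G}

theorem card_of_fibre {α β : Type*} [Finite α] [Finite β] (f : α → β) {k : ℕ}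
    (hf : ∀ y, Nat.card {x // f x = y} = k) : Nat.card α = Nat.card β * k := by
  haveI := Fintype.ofFinite β
  rw [← Nat.card_congr (Equiv.sigmaFiberEquiv f), Nat.card_sigma]
  simp [hf]

theorem ne_one_of_orderOf {x : G} {n : ℕ} (h : orderOf x = n) (hn : n ≠ 1) : x ≠ 1 :=
  fun e => hn (by rw [← h, e, orderOf_one])

theorem JLine.axis {M : Subgroup G} (h : JLine S M) {x : G} (hx : x ∈ M) (ho : orderOf x = 2)
    {e : S.Pt} (he : e.1 ≤ M) (hxe : x • e = e) :
    ∃ (b : S.Pt) (y w : G), b ≠ e ∧ b.1 ≤ M ∧ x • b = b ∧ y ∈ M ∧ orderOf y = 5 ∧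
      y * x = x * y ∧ y • e = e ∧ y • b = b ∧ w ∈ M ∧ orderOf w = 2 ∧ w * x = x * w ∧
      w • e = b ∧ w • b = e ∧ w * y * w⁻¹ = y⁻¹ := by
  obtain ⟨B, hB, hBne, hxB, y, w, hy, hyx, hyA, hyB, -, hw, hwx, hwA, hwB, hwy⟩ :=
    j1_axis h.iso (t := ⟨x, hx⟩) (by rw [Subgroup.orderOf_mk, ho])
      (A := e.1.subgroupOf M) (by rw [card_subgroupOf he, card_pt S])
      ((smul_fix_iff hx he).1 hxe)
  obtain ⟨b, hbM, rfl⟩ := h.exists_subgroupOf hB
  refine ⟨b, y, w, fun e' => hBne (by rw [e']), hbM, (smul_fix_iff hx hbM).2 hxB, y.2,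
    (Subgroup.orderOf_coe y).trans hy, congrArg Subtype.val hyx, (smul_fix_iff y.2 he).2 hyA,
    (smul_fix_iff y.2 hbM).2 hyB, w.2, (Subgroup.orderOf_coe w).trans hw,
    congrArg Subtype.val hwx, (smul_eq_iff S).2 (cj_eq_of_subgroupOf he hbM hwA),
    (smul_eq_iff S).2 (cj_eq_of_subgroupOf hbM he hwB), ?_⟩
  exact (congrArg Subtype.val hwy : ((w * y * w⁻¹ : ↥M) : G) = ((y⁻¹ : ↥M) : G))

theorem exists_mult_five {y : G} {c : S.Pt} (hy : orderOf y = 5) (hyc : y • c = c)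
    (hnc : ¬ Centralises y c.1) :
    ∃ i : ℕ, ActsAs y c.1 i ∧ (i : ZMod 11) ≠ 1 ∧ (i : ZMod 11) ^ 5 = 1 := by
  obtain ⟨i, hi⟩ := exists_acts (card_pt S c) ((smul_eq_iff S).1 hyc)
  refine ⟨i, hi, fun e => hnc (centralises_iff.2 (acts_of_cast (card_pt S c) hi (by simpa using e))),
    ?_⟩
  have h1 := acts_pow hi 5
  rw [← hy, pow_orderOf_eq_one, hy] at h1
  simpa using acts_cast_eq (card_pt S c) h1 (acts_one c.1)

theorem JLine.mult_five {M : Subgroup G} (h : JLine S M) {y : G} (hyM : y ∈ M) {c : S.Pt}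
    (hc : c.1 ≤ M) (hy : orderOf y = 5) (hyc : y • c = c) :
    ∃ i : ℕ, ActsAs y c.1 i ∧ (i : ZMod 11) ≠ 1 ∧ (i : ZMod 11) ^ 5 = 1 :=
  exists_mult_five hy hyc fun hcen => by
    have h3 := Subgroup.orderOf_dvd_natCard _ (h.centralizer_point hc hyM hcen)
    rw [hy, card_pt S] at h3
    norm_num at h3

namespace Conf

variable (C : Conf S)

theorem t_sq : C.t * C.t = 1 := sq_of_order_two C.order_t

theorem t_inv : C.t⁻¹ = C.t := inv_eq_of_mul_eq_one_left C.t_sq

theorem inverts {c : S.Pt} (hc : C.t • c = c) : Inverts C.t c.1 :=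
  C.line.invol_inverts C.t_mem C.order_t hc

theorem fix_smul {g : G} (hg : g * C.t = C.t * g) {c : S.Pt} (hc : C.t • c = c) :
    C.t • (g • c) = g • c := by rw [← mul_smul, ← hg, mul_smul, hc]

theorem t_mem_cj {g : G} (hg : g * C.t = C.t * g) {M : Subgroup G} (ht : C.t ∈ M) :
    C.t ∈ cj g M :=
  ⟨C.t, ht, by
    show g * C.t * g⁻¹ = C.t
    rw [hg, mul_inv_cancel_right]⟩

/-- Two fixed points generate their line. -/
theorem pair_eq {M : Subgroup G} (hM : JLine S M) (ht : C.t ∈ M) {c d : S.Pt} (hc : C.t • c = c)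
    (hd : C.t • d = d) (hcM : c.1 ≤ M) (hdM : d.1 ≤ M) (hcd : c ≠ d) : c.1 ⊔ d.1 = M := by
  have hle : c.1 ⊔ d.1 ≤ M := sup_le hcM hdM
  have hN := line_normal S hc hd
  have hJ : Cfsg.Spor.IsoJ1 ↥(c.1 ⊔ d.1) := by
    refine (H92.Eleven.line S hcd).resolve_left fun hL => ?_
    have hA : Nat.card ↥(c.1.subgroupOf (c.1 ⊔ d.1)) = 11 := by
      rw [card_subgroupOf le_sup_left, card_pt S]
    have hB : Nat.card ↥(d.1.subgroupOf (c.1 ⊔ d.1)) = 11 := by
      rw [card_subgroupOf le_sup_right, card_pt S]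
    obtain ⟨g, hg1, hg2⟩ := l2_order_four hL hA hB
      (subgroupOf_ne (le_sup_left : c.1 ≤ c.1 ⊔ d.1) le_sup_right (fun e => hcd (Subtype.ext e)))
      (autOf hN)
      (fun k hk => Subtype.ext (by
        rw [autOf_apply, C.inverts hc _ (Subgroup.mem_subgroupOf.1 hk)]; rfl))
      (fun k hk => Subtype.ext (by
        rw [autOf_apply, C.inverts hd _ (Subgroup.mem_subgroupOf.1 hk)]; rfl))
    set h : ↥M := ⟨C.t * g, M.mul_mem ht (hle g.2)⟩
    have hh : ((h ^ 2 : ↥M) : G) = ((autOf hN g * g : ↥(c.1 ⊔ d.1)) : G) := by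
      rw [sq]
      push_cast
      rw [autOf_apply, C.t_inv]
      simp only [h]
      group
    refine j1_no_four hM.iso h (orderOf_eq_prime_pow (p := 2) (n := 1) ?_ ?_)
    · rw [pow_one]
      intro e
      exact hg1 (Subtype.ext (by rw [← hh, e]; rfl))
    · refine Subtype.ext ?_
      rw [show (2 : ℕ) ^ (1 + 1) = 2 * 2 from rfl, pow_mul, sq (h ^ 2), Subgroup.coe_mul, hh,
        ← Subgroup.coe_mul, hg2]
      rfl
  exact Subgroup.eq_of_le_of_card_ge hle (by rw [hM.card, j1_card hJ])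

/-- An element commuting with `t` and fixing three of its fixed points has multipliers `±1`. -/
theorem three_fixed {c d e : S.Pt} (hc : C.t • c = c) (hd : C.t • d = d) (he : C.t • e = e)
    (hcd : c ≠ d) (hce : c ≠ e) (hde : d ≠ e) {x : G} (hxt : x * C.t = C.t * x) (hxc : x • c = c)
    (hxd : x • d = d) (hxe : x • e = e) {i : ℕ} (hi : ActsAs x c.1 i) :
    (i : ZMod 11) * i = 1 := by
  obtain ⟨j, hj⟩ := exists_acts (card_pt S d) ((smul_eq_iff S).1 hxd)
  obtain ⟨k, hk⟩ := exists_acts (card_pt S e) ((smul_eq_iff S).1 hxe)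
  exact mult_three (pair_mult S hcd C.t_sq hc hd (C.inverts hc) hxc hxd hxt hi hj)
    (pair_mult S hce C.t_sq hc he (C.inverts hc) hxc hxe hxt hi hk)
    (pair_mult S hde C.t_sq hd he (C.inverts hd) hxd hxe hxt hj hk)

theorem fix_two {c d e : S.Pt} (hc : C.t • c = c) (hd : C.t • d = d) (he : C.t • e = e)
    (hcd : c ≠ d) {x : G} (hxt : x * C.t = C.t * x) (hxc : x • c = c)
    (hxd : x • d = d) (hxe : x • e = e) {i : ℕ} (hi : ActsAs x c.1 i)
    (h1 : (i : ZMod 11) ≠ 1) (h5 : (i : ZMod 11) ^ 5 = 1) : e = c ∨ e = d := by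
  by_contra hne
  push Not at hne
  exact h1 ((show ∀ m : ZMod 11, m * m = 1 → m ^ 5 = 1 → m = 1 by decide +kernel) _
    (C.three_fixed hc hd he hcd (Ne.symm hne.1) (Ne.symm hne.2) hxt hxc hxd hxe hi) h5)

/-- An element of order five at `a` on the line through `a` and another fixed point. -/
theorem exists_five {c : S.Pt} (hc : C.t • c = c) (hca : c ≠ C.a) :
    ∃ (d : S.Pt) (y : G), d ≠ C.a ∧ C.t • d = d ∧ d.1 ≤ C.a.1 ⊔ c.1 ∧ orderOf y = 5 ∧
      y * C.t = C.t * y ∧ y • C.a = C.a ∧ y • d = d ∧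
      ∃ i : ℕ, ActsAs y C.a.1 i ∧ (i : ZMod 11) ≠ 1 ∧ (i : ZMod 11) ^ 5 = 1 := by
  set N := C.a.1 ⊔ c.1
  have haN : C.a.1 ≤ N := le_sup_left
  have hcN : c.1 ≤ N := le_sup_right
  rcases H92.Eleven.line S hca.symm with hL | hJ
  · haveI : Fact (Nat.Prime 5) := ⟨by norm_num⟩
    have hA : Nat.card ↥(C.a.1.subgroupOf N) = 11 := by rw [card_subgroupOf haN, card_pt S]
    have hB : Nat.card ↥(c.1.subgroupOf N) = 11 := by rw [card_subgroupOf hcN, card_pt S]
    set H : Subgroup ↥N := Subgroup.normalizer (C.a.1.subgroupOf N : Set ↥N) ⊓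
      Subgroup.normalizer (c.1.subgroupOf N : Set ↥N)
    have hH : Nat.card ↥H = 5 :=
      l2_pair hL hA hB (subgroupOf_ne haN hcN fun e => hca (Subtype.ext e).symm)
    obtain ⟨y, hy⟩ := exists_prime_orderOf_dvd_card' (G := ↥H) 5 (by rw [hH])
    have hy5 : orderOf ((y : ↥N) : G) = 5 := by rw [Subgroup.orderOf_coe, Subgroup.orderOf_coe, hy]
    have hya : ((y : ↥N) : G) • C.a = C.a := (smul_fix_iff y.1.2 haN).2 (cj_eq_self_iff.2 y.2.1)
    have hyc : ((y : ↥N) : G) • c = c := (smul_fix_iff y.1.2 hcN).2 (cj_eq_self_iff.2 y.2.2)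
    set g : G := ((y : ↥N) : G)
    have hgN : g ∈ N := y.1.2
    have hpoint : ∀ x ∈ N, Centralises x C.a.1 → x ∈ C.a.1 := fun x hx hcen => by
      have h1 : (⟨x, hx⟩ : ↥N) ∈ Subgroup.centralizer (C.a.1.subgroupOf N : Set ↥N) :=
        Subgroup.mem_centralizer_iff.2 fun k hk =>
          Subtype.ext (hcen _ (Subgroup.mem_subgroupOf.1 hk)).symm
      rw [l2_centralizer hL hA] at h1
      exact Subgroup.mem_subgroupOf.1 h1
    obtain ⟨i, hi, hi1, hi5⟩ := exists_mult_five hy5 hya fun hcen => by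
      have h3 := Subgroup.orderOf_dvd_natCard _ (hpoint g hgN hcen)
      rw [hy5, card_pt S] at h3
      norm_num at h3
    refine ⟨c, g, hca, hc, hcN, hy5, ?_, hya, hyc, i, hi, hi1, hi5⟩
    have hz : C.t * g * C.t⁻¹ * g⁻¹ = 1 := by
      set z := C.t * g * C.t⁻¹ * g⁻¹ with hzdef
      have hzN : z ∈ N := by
        refine N.mul_mem ?_ (N.inv_mem hgN)
        have h1 : C.t * g * C.t⁻¹ ∈ cj C.t N := ⟨g, hgN, rfl⟩
        rwa [line_normal S C.t_a hc] at h1
      have hfix : ∀ e : S.Pt, C.t • e = e → g • e = e → z • e = e := by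
        intro e he hge
        rw [hzdef, C.t_inv, mul_smul, mul_smul, mul_smul, inv_smul_eq_iff.2 hge.symm, he, hge, he]
      have hzH : (⟨z, hzN⟩ : ↥N) ∈ H :=
        ⟨cj_eq_self_iff.1 ((smul_fix_iff hzN haN).1 (hfix _ C.t_a hya)),
          cj_eq_self_iff.1 ((smul_fix_iff hzN hcN).1 (hfix _ hc hyc))⟩
      have hz5 := Subgroup.orderOf_dvd_natCard _ hzH
      rw [hH, Subgroup.orderOf_mk] at hz5
      have hgi : ActsAs g⁻¹ C.a.1 (i ^ 4) := by
        have h1 := acts_pow hi 4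
        rwa [show g⁻¹ = g ^ 4 from inv_eq_of_mul_eq_one_left (by
          rw [← pow_succ, show 4 + 1 = orderOf g from hy5.symm, pow_orderOf_eq_one])]
      have ht10 := (inverts_iff (card_pt S C.a)).1 (C.inverts C.t_a)
      have hz1 : Centralises z C.a.1 := by
        refine centralises_iff.2 (acts_of_cast (card_pt S C.a)
          (i := 10 * i * 10 * i ^ 4) ?_ ?_)
        · rw [hzdef, C.t_inv]
          exact acts_mul (acts_mul (acts_mul ht10 hi) ht10) hgi
        · push_cast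
          calc (10 : ZMod 11) * i * 10 * (i : ZMod 11) ^ 4
              = (10 * 10) * (i : ZMod 11) ^ 5 := by ring
            _ = 1 := by rw [hi5]; decide
      have hz11 := Subgroup.orderOf_dvd_natCard _ (hpoint z hzN hz1)
      rw [card_pt S] at hz11
      rw [← orderOf_eq_one_iff]
      exact Nat.eq_one_of_dvd_coprimes (by norm_num) hz5 hz11
    rw [mul_inv_eq_one, mul_inv_eq_iff_eq_mul] at hz
    exact hz.symm
  · have hN : JLine S N := ⟨C.a, c, hca.symm, rfl, hJ⟩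
    obtain ⟨l, hl, e, he, hte⟩ := hN.inner (line_normal S C.t_a hc)
    have hle : l * e = e * l := Subgroup.mem_centralizer_iff.1 he l hl
    have hee : ∀ x ∈ N, e * x = x * e := fun x hx => (Subgroup.mem_centralizer_iff.1 he x hx).symm
    have hefix : ∀ d : S.Pt, d.1 ≤ N → e • d = d := fun d hd => (smul_eq_iff S).2
      (mem_normalizer_of_acts (card_pt S d)
        (centralises_iff.1 fun x hx => hee x (hd hx)))
    have hl2 : l * l = 1 := by
      have h1 : (l * l) * (e * e) = 1 := by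
        rw [← C.t_sq, hte]
        calc l * l * (e * e) = l * (l * e) * e := by group
          _ = l * (e * l) * e := by rw [hle]
          _ = _ := by group
      have h2 : l * l ∈ Subgroup.centralizer (N : Set G) := by
        rw [mul_eq_one_iff_eq_inv.1 h1]
        exact Subgroup.inv_mem _ (Subgroup.mul_mem _ he he)
      have h3 : l * l ∈ N ⊓ Subgroup.centralizer (N : Set G) := ⟨N.mul_mem hl hl, h2⟩
      rwa [hN.inf_centralizer, Subgroup.mem_bot] at h3
    have hl1 : l ≠ 1 := fun h1 => by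
      rw [h1, one_mul] at hte
      exact not_inverts_and_centralises (C.inverts C.t_a)
        (hte ▸ fun x hx => hee x (haN hx))
    have hlo : orderOf l = 2 := orderOf_eq_prime (by rw [sq, hl2]) hl1
    have hla : l • C.a = C.a := by
      have h1 := C.t_a
      rwa [hte, mul_smul, hefix _ haN] at h1
    obtain ⟨b, y, w, hba, hbN, hlb, hyN, hy5, hyl, hya, hyb, -⟩ := hN.axis hl hlo haN hla
    refine ⟨b, y, hba, by rw [hte, mul_smul, hefix _ hbN, hlb], hbN, hy5, ?_, hya, hyb,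
      hN.mult_five hyN haN hy5 hya⟩
    rw [hte, ← mul_assoc, hyl, mul_assoc, ← hee y hyN, mul_assoc]

/-- Two such elements are conjugate in the stabiliser, with their second fixed points. -/
theorem five_conj {b d : S.Pt} {y y' : G} (hb : b ≠ C.a) (htb : C.t • b = b) (hd : d ≠ C.a)
    (htd : C.t • d = d) (hy : orderOf y = 5) (hy' : orderOf y' = 5) (hyt : y * C.t = C.t * y)
    (hyt' : y' * C.t = C.t * y') (hya : y • C.a = C.a) (hya' : y' • C.a = C.a) (hyb : y • b = b)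
    (hyd : y' • d = d)
    {i : ℕ} (hi : ActsAs y C.a.1 i) (hi1 : (i : ZMod 11) ≠ 1) (hi5 : (i : ZMod 11) ^ 5 = 1)
    {j : ℕ} (hj : ActsAs y' C.a.1 j) (hj1 : (j : ZMod 11) ≠ 1) (hj5 : (j : ZMod 11) ^ 5 = 1) :
    ∃ k : G, k * C.t = C.t * k ∧ k • C.a = C.a ∧ k • b = d := by
  haveI : Fact (Nat.Prime 5) := ⟨by norm_num⟩
  set K : Subgroup G := Subgroup.centralizer ({C.t} : Set G) ⊓ MulAction.stabilizer G C.a
  have hKt : ∀ k : ↥K, (k : G) * C.t = C.t * k := fun k =>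
    (Subgroup.mem_centralizer_singleton_iff.1 k.2.1)
  have hKa : ∀ k : ↥K, (k : G) • C.a = C.a := fun k => k.2.2
  set yk : ↥K := ⟨y, Subgroup.mem_centralizer_singleton_iff.2 hyt, hya⟩
  set yk' : ↥K := ⟨y', Subgroup.mem_centralizer_singleton_iff.2 hyt', hya'⟩
  have hp : ∀ z : ↥K, orderOf (z : G) = 5 → ∃ Q : Sylow 5 ↥K, z ∈ (Q : Subgroup ↥K) := fun z hz => by
    obtain ⟨Q, hQ⟩ := (IsPGroup.of_card (n := 1) (by
      rw [Nat.card_zpowers, ← Subgroup.orderOf_coe, hz, pow_one]) :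
      IsPGroup 5 ↥(Subgroup.zpowers z)).exists_le_sylow
    exact ⟨Q, hQ (Subgroup.mem_zpowers z)⟩
  obtain ⟨Q, hQ⟩ := hp yk hy
  obtain ⟨Q', hQ'⟩ := hp yk' hy'
  obtain ⟨k, hk⟩ := MulAction.exists_smul_eq ↥K Q Q'
  have key : ∀ q : ↥(Q : Subgroup ↥K), ((q : ↥K) : G) • b = b := by
    haveI : Group.IsNilpotent ↥(Q : Subgroup ↥K) := Q.isPGroup'.isNilpotent
    set H : Subgroup ↥(Q : Subgroup ↥K) :=
      (MulAction.stabilizer G b).comap (K.subtype.comp (Q : Subgroup ↥K).subtype)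
    suffices H = ⊤ from fun q => (this ▸ Subgroup.mem_top q : q ∈ H)
    by_contra hne
    obtain ⟨q, hqN, hqH⟩ := SetLike.exists_of_lt
      (Group.normalizerCondition_of_isNilpotent H (lt_top_iff_ne_top.2 hne))
    have hyH : (⟨yk, hQ⟩ : ↥(Q : Subgroup ↥K)) ∈ H := hyb
    have h1 : (((q : ↥K) : G) * y * ((q : ↥K) : G)⁻¹) • b = b :=
      (Subgroup.mem_normalizer_iff.1 hqN _).1 hyH
    rw [mul_smul, mul_smul, smul_eq_iff_eq_inv_smul] at h1
    refine hqH ?_
    show ((q : ↥K) : G) • b = b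
    have hqt : ((q : ↥K) : G)⁻¹ * C.t = C.t * ((q : ↥K) : G)⁻¹ := hKt (q : ↥K)⁻¹
    rcases C.fix_two C.t_a htb (C.fix_smul hqt htb) hb.symm hyt hya hyb h1 hi hi1 hi5 with e | e
    · exact absurd ((inv_smul_eq_iff.1 e).trans (hKa _)) hb
    · exact (inv_smul_eq_iff.1 e).symm
  have h2 : k⁻¹ * yk' * k ∈ (Q : Subgroup ↥K) := by
    have h3 : yk' ∈ ((k • Q : Sylow 5 ↥K) : Subgroup ↥K) := hk ▸ hQ'
    rw [Sylow.coe_subgroup_smul, Subgroup.mem_pointwise_smul_iff_inv_smul_mem] at h3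
    simpa [MulAut.smul_def, ← map_inv] using h3
  have h4 : ((k : G)⁻¹ * y' * k) • b = b := key ⟨_, h2⟩
  rw [mul_smul, mul_smul, inv_smul_eq_iff] at h4
  refine ⟨k, hKt k, hKa k, ?_⟩
  rcases C.fix_two C.t_a htd (C.fix_smul (hKt k) htb) hd.symm hyt' hya' hyd h4 hj hj1 hj5 with e | e
  · exact absurd (MulAction.injective (k : G) (e.trans (hKa k).symm)) hb
  · exact e

/-- The line through `a` and another fixed point is a conjugate of `L` containing `t`. -/
theorem line_at {c : S.Pt} (hc : C.t • c = c) (hca : c ≠ C.a) :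
    ∃ k : G, k * C.t = C.t * k ∧ k • C.a = C.a ∧ cj k C.L = C.a.1 ⊔ c.1 ∧
      JLine S (C.a.1 ⊔ c.1) ∧ C.t ∈ C.a.1 ⊔ c.1 := by
  obtain ⟨b, y, w, hba, hbL, htb, hyL, hy5, hyt, hya, hyb, -⟩ :=
    C.line.axis C.t_mem C.order_t C.a_le C.t_a
  obtain ⟨i, hi, hi1, hi5⟩ := C.line.mult_five hyL C.a_le hy5 hya
  obtain ⟨d, y', hda, htd, hdle, hy5', hyt', hya', hyd, j, hj, hj1, hj5⟩ := C.exists_five hc hca
  obtain ⟨k, hkt, hka, hkb⟩ := C.five_conj hba htb hda htd hy5 hy5' hyt hyt' hya hya' hyb hyd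
    hi hi1 hi5 hj hj1 hj5
  have hM := C.line.conj k
  have hle : cj k C.L ≤ C.a.1 ⊔ c.1 := by
    rw [← C.pair_eq C.line C.t_mem C.t_a htb C.a_le hbL hba.symm, cj_sup,
      (smul_eq_iff S).1 hka, (smul_eq_iff S).1 hkb]
    exact sup_le le_sup_left hdle
  have hJ : Cfsg.Spor.IsoJ1 ↥(C.a.1 ⊔ c.1) := by
    refine (H92.Eleven.line S hca.symm).resolve_left fun hL => ?_
    have h1 := Nat.le_of_dvd Nat.card_pos (Subgroup.card_dvd_of_le hle)
    rw [hM.card, l2_card hL] at h1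
    omega
  have heq : cj k C.L = C.a.1 ⊔ c.1 :=
    Subgroup.eq_of_le_of_card_ge hle (by rw [hM.card, j1_card hJ])
  exact ⟨k, hkt, hka, heq, ⟨C.a, c, hca.symm, rfl, hJ⟩, heq ▸ C.t_mem_cj hkt C.t_mem⟩

end Conf

end H92.Eleven
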