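import Cfsg.Agent.H63.Eleven.FactsL
import Cfsg.Agent.H63.Eleven.FactsJ

/-!
Points, multipliers and lines for the case of a `J₁` line.
-/

set_option autoImplicit false
set_option linter.style.haveILetI false
set_option linter.unusedSectionVars false

namespace H92.Eleven

open H63.Eleven

universe u

variable {G : Type u} [Group G]

/-! ### Multipliers on subgroups of order eleven -/

theorem centralises_iff {x : G} {A : Subgroup G} : Centralises x A ↔ ActsAs x A 1 := by
  constructor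
  · intro h a ha; rw [h a ha, pow_one, mul_inv_cancel_right]
  · intro h a ha
    have := h a ha
    rw [pow_one, mul_inv_eq_iff_eq_mul] at this
    exact this

theorem cj_eq_self_iff {g : G} {A : Subgroup G} :
    cj g A = A ↔ g ∈ Subgroup.normalizer (A : Set G) := by
  rw [Subgroup.mem_normalizer_iff'']
  constructor
  · intro h y
    constructor
    · intro hy; rw [← mem_cj, h]; exact hy
    · intro hy; rw [← h, mem_cj]; exact hy
  · intro h
    ext y
    rw [mem_cj]
    exact (h y).symm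

theorem mem_normalizer_of_acts {x : G} {A : Subgroup G} (hA : Nat.card A = 11) {i : ℕ}
    (h : ActsAs x A i) : cj x A = A := by
  haveI : Finite A := Nat.finite_of_card_ne_zero (by rw [hA]; norm_num)
  refine Subgroup.eq_of_le_of_card_ge ?_ ?_
  · rintro _ ⟨a, ha, rfl⟩
    show x * a * x⁻¹ ∈ A
    rw [h a ha]; exact A.pow_mem ha i
  · rw [Subgroup.card_map_of_injective (MulAut.conj x).injective]

theorem exists_gen {A : Subgroup G} (hA : Nat.card A = 11) :
    ∃ g ∈ A, orderOf g = 11 ∧ A = Subgroup.zpowers g := by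
  haveI : Finite A := Nat.finite_of_card_ne_zero (by rw [hA]; norm_num)
  haveI : Fact (Nat.Prime 11) := ⟨by norm_num⟩
  haveI : Nontrivial A := Finite.one_lt_card_iff_nontrivial.1 (by rw [hA]; norm_num)
  obtain ⟨a, ha⟩ := exists_ne (1 : A)
  refine ⟨a, a.2, ?_, ?_⟩
  · rw [Subgroup.orderOf_coe, ← hA]
    exact orderOf_eq_card_of_forall_mem_zpowers fun y => mem_zpowers_of_prime_card hA ha
  · refine le_antisymm (fun y hy => ?_) (Subgroup.zpowers_le.2 a.2)
    obtain ⟨k, hk⟩ := Subgroup.mem_zpowers_iff.1 (mem_zpowers_of_prime_card hA ha (g' := ⟨y, hy⟩))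
    exact Subgroup.mem_zpowers_iff.2 ⟨k, by simpa using congrArg Subtype.val hk⟩

theorem acts_cast_eq {x : G} {A : Subgroup G} (hA : Nat.card A = 11) {i j : ℕ}
    (hi : ActsAs x A i) (hj : ActsAs x A j) : (i : ZMod 11) = j := by
  obtain ⟨g, hg, hgo, -⟩ := exists_gen hA
  rw [ZMod.natCast_eq_natCast_iff]
  have := pow_eq_pow_iff_modEq.1 ((hi g hg).symm.trans (hj g hg))
  rwa [hgo] at this

theorem acts_of_cast {x : G} {A : Subgroup G} (hA : Nat.card A = 11) {i j : ℕ}
    (hi : ActsAs x A i) (h : (i : ZMod 11) = j) : ActsAs x A j := by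
  intro a ha
  rw [hi a ha]
  refine pow_eq_pow_iff_modEq.2 (((ZMod.natCast_eq_natCast_iff _ _ _).1 h).of_dvd ?_)
  haveI : Finite A := Nat.finite_of_card_ne_zero (by rw [hA]; norm_num)
  rw [← hA]
  exact Subgroup.orderOf_dvd_natCard A ha

theorem acts_mul {x y : G} {A : Subgroup G} {i j : ℕ} (hi : ActsAs x A i) (hj : ActsAs y A j) :
    ActsAs (x * y) A (i * j) := by
  intro a ha
  calc x * y * a * (x * y)⁻¹ = x * (y * a * y⁻¹) * x⁻¹ := by group
    _ = x * a ^ j * x⁻¹ := by rw [hj a ha]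
    _ = (x * a * x⁻¹) ^ j := by rw [conj_pow]
    _ = _ := by rw [hi a ha, pow_mul]

theorem acts_one (A : Subgroup G) : ActsAs (1 : G) A 1 := fun a _ => by simp

theorem acts_pow {x : G} {A : Subgroup G} {i : ℕ} (hi : ActsAs x A i) :
    ∀ n : ℕ, ActsAs (x ^ n) A (i ^ n)
  | 0 => by simpa using acts_one A
  | n + 1 => by rw [pow_succ, pow_succ]; exact acts_mul (acts_pow hi n) hi

theorem exists_acts {x : G} {A : Subgroup G} (hA : Nat.card A = 11) (h : cj x A = A) :
    ∃ i : ℕ, ActsAs x A i := by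
  classical
  obtain ⟨g, hg, hgo, hAg⟩ := exists_gen hA
  have h1 : x * g * x⁻¹ ∈ A := by
    rw [← h]; exact ⟨g, hg, rfl⟩
  rw [hAg, (isOfFinOrder_iff_pow_eq_one.2 ⟨11, by norm_num, hgo ▸ pow_orderOf_eq_one g⟩).mem_zpowers_iff_mem_range_orderOf,
    Finset.mem_image] at h1
  obtain ⟨i, -, hi⟩ := h1
  refine ⟨i, fun a ha => ?_⟩
  rw [hAg] at ha
  obtain ⟨k, rfl⟩ := Subgroup.mem_zpowers_iff.1 ha
  rw [← conj_zpow, ← hi, ← zpow_natCast, ← zpow_natCast, ← zpow_mul, ← zpow_mul, mul_comm]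

theorem inverts_iff {x : G} {A : Subgroup G} (hA : Nat.card A = 11) :
    Inverts x A ↔ ActsAs x A 10 := by
  have key : ∀ a ∈ A, a ^ 10 = a⁻¹ := fun a ha => by
    refine eq_inv_of_mul_eq_one_left ?_
    haveI : Finite A := Nat.finite_of_card_ne_zero (by rw [hA]; norm_num)
    have h11 : a ^ 11 = 1 := by
      have h1 := pow_card_eq_one' (x := (⟨a, ha⟩ : A))
      rw [hA] at h1
      simpa using congrArg Subtype.val h1
    rw [← pow_succ, h11]
  constructor <;> intro h a ha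
  · rw [h a ha, key a ha]
  · rw [h a ha, key a ha]

theorem centralises_of_mem {A : Subgroup G} (hA : Nat.card A = 11) {x : G} (hx : x ∈ A) :
    Centralises x A := by
  obtain ⟨g, -, -, hAg⟩ := exists_gen hA
  intro a ha
  rw [hAg] at hx ha
  obtain ⟨k, rfl⟩ := Subgroup.mem_zpowers_iff.1 hx
  obtain ⟨l, rfl⟩ := Subgroup.mem_zpowers_iff.1 ha
  exact (Commute.refl g).zpow_zpow k l

/-- An element whose square centralises acts as plus or minus one. -/
theorem acts_of_sq {x : G} {A : Subgroup G} (hA : Nat.card A = 11) (h : cj x A = A)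
    (h2 : x * x = 1) : Centralises x A ∨ Inverts x A := by
  obtain ⟨i, hi⟩ := exists_acts hA h
  have h3 := acts_cast_eq hA (h2 ▸ acts_mul hi hi : ActsAs (1 : G) A (i * i)) (acts_one A)
  push_cast at h3
  rcases (show ∀ a : ZMod 11, a * a = 1 → a = 1 ∨ a = 10 by decide) _ h3 with h4 | h4
  · exact Or.inl (centralises_iff.2 (acts_of_cast hA hi (by rw [h4]; rfl)))
  · exact Or.inr ((inverts_iff hA).2 (acts_of_cast hA hi (by rw [h4]; rfl)))

/-- If the products of three multipliers in pairs are one then each squares to one. -/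
theorem mult_three {i j k : ℕ} (hij : i * j % 11 = 1) (hik : i * k % 11 = 1)
    (hjk : j * k % 11 = 1) : (i : ZMod 11) * i = 1 := by
  have c : ∀ a b : ℕ, a * b % 11 = 1 → (a : ZMod 11) * b = 1 := fun a b h => by
    rw [← Nat.cast_mul, ← ZMod.natCast_mod, h, Nat.cast_one]
  revert i j k
  intro i j k h1 h2 h3
  exact (show ∀ a b d : ZMod 11, a * b = 1 → a * d = 1 → b * d = 1 → a * a = 1 by decide +kernel)
    _ _ _ (c _ _ h1) (c _ _ h2) (c _ _ h3)

/-! ### Points and lines -/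

theorem card_cj (g : G) (Q : Subgroup G) : Nat.card ↥(cj g Q) = Nat.card ↥Q :=
  Subgroup.card_map_of_injective (MulAut.conj g).injective

theorem card_pt (S : Sys G) (a : S.Pt) : Nat.card ↥a.1 = 11 := by
  obtain ⟨g, hg⟩ := a.2
  rw [← hg, card_cj, S.card_P]

theorem pt_le_iff (S : Sys G) {a b : S.Pt} : a.1 ≤ b.1 ↔ a = b := by
  refine ⟨fun h => Subtype.ext ?_, fun h => h ▸ le_rfl⟩
  haveI : Finite b.1 := Nat.finite_of_card_ne_zero (by rw [card_pt S]; norm_num)
  exact Subgroup.eq_of_le_of_card_ge h (by rw [card_pt S a, card_pt S b])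

theorem smul_val (S : Sys G) (g : G) (a : S.Pt) : (g • a).1 = cj g a.1 := rfl

theorem smul_eq_iff (S : Sys G) {g : G} {a b : S.Pt} : g • a = b ↔ cj g a.1 = b.1 :=
  ⟨fun h => h ▸ rfl, fun h => Subtype.ext h⟩

theorem line (S : Sys G) {a b : S.Pt} (h : a ≠ b) :
    IsL2 ↥(a.1 ⊔ b.1) ∨ Cfsg.Spor.IsoJ1 ↥(a.1 ⊔ b.1) := by
  obtain ⟨g, hg⟩ := a.2
  obtain ⟨k, hk⟩ := b.2
  have hne : cj g S.P ≠ cj k S.P := fun e => h (Subtype.ext (by rw [← hg, ← hk]; exact e))
  rw [← hg, ← hk]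
  exact S.pair g k hne

theorem cj_sup (g : G) (A B : Subgroup G) : cj g (A ⊔ B) = cj g A ⊔ cj g B := Subgroup.map_sup _ _ _

theorem line_normal (S : Sys G) {a b : S.Pt} {g : G} (ha : g • a = a) (hb : g • b = b) :
    cj g (a.1 ⊔ b.1) = a.1 ⊔ b.1 := by
  rw [cj_sup, (smul_eq_iff S).1 ha, (smul_eq_iff S).1 hb]

/-- The restriction of conjugation to a normalised subgroup. -/
noncomputable def autOf {M : Subgroup G} {x : G} (h : cj x M = M) : MulAut ↥M :=
  Subgroup.normalizerMonoidHom M ⟨x, cj_eq_self_iff.1 h⟩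

theorem autOf_apply {M : Subgroup G} {x : G} (h : cj x M = M) (k : ↥M) :
    ((autOf h k : ↥M) : G) = x * k * x⁻¹ := rfl

theorem card_subgroupOf {M A : Subgroup G} (h : A ≤ M) :
    Nat.card ↥(A.subgroupOf M) = Nat.card A :=
  Nat.card_congr (Subgroup.subgroupOfEquivOfLe h).toEquiv

theorem subgroupOf_ne {M A B : Subgroup G} (hA : A ≤ M) (hB : B ≤ M) (h : A ≠ B) :
    A.subgroupOf M ≠ B.subgroupOf M := fun e => h (by
  have := congrArg (Subgroup.map M.subtype) e
  rwa [Subgroup.map_subgroupOf_eq_of_le hA, Subgroup.map_subgroupOf_eq_of_le hB] at this)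

theorem cj_subgroupOf {M A : Subgroup G} (k : ↥M) :
    cj k (A.subgroupOf M) = (cj (k : G) A).subgroupOf M := by
  ext y
  rw [mem_cj, Subgroup.mem_subgroupOf, Subgroup.mem_subgroupOf, mem_cj]
  simp

theorem cj_le {M A : Subgroup G} (hA : A ≤ M) {k : G} (hk : k ∈ M) : cj k A ≤ M := by
  rintro _ ⟨y, hy, rfl⟩
  exact M.mul_mem (M.mul_mem hk (hA hy)) (M.inv_mem hk)

theorem cj_eq_of_subgroupOf {M A B : Subgroup G} (hA : A ≤ M) (hB : B ≤ M) {k : ↥M}
    (h : cj k (A.subgroupOf M) = B.subgroupOf M) : cj (k : G) A = B := by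
  rw [cj_subgroupOf] at h
  have := congrArg (Subgroup.map M.subtype) h
  rwa [Subgroup.map_subgroupOf_eq_of_le (cj_le hA k.2), Subgroup.map_subgroupOf_eq_of_le hB] at this

variable [Finite G]

theorem line_simple (S : Sys G) {a b : S.Pt} (h : a ≠ b) : IsSimpleGroup ↥(a.1 ⊔ b.1) :=
  (line S h).elim l2_simple j1_simple

theorem not_normalizes (S : Sys G) {a b : S.Pt} (h : a ≠ b) :
    ¬ a.1 ≤ Subgroup.normalizer (b.1 : Set G) := by
  intro hle
  haveI := line_simple S h
  have hn : a.1 ⊔ b.1 ≤ Subgroup.normalizer (b.1 : Set G) := sup_le hle Subgroup.le_normalizer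
  haveI : (b.1.subgroupOf (a.1 ⊔ b.1)).Normal :=
    (Subgroup.normal_subgroupOf_iff_le_normalizer le_sup_right).2 hn
  rcases (inferInstance : (b.1.subgroupOf (a.1 ⊔ b.1)).Normal).eq_bot_or_eq_top with e | e
  · have := card_subgroupOf (le_sup_right : b.1 ≤ a.1 ⊔ b.1)
    rw [e, Subgroup.card_bot, card_pt S] at this
    norm_num at this
  · exact h ((pt_le_iff S).1 (le_sup_left.trans (Subgroup.subgroupOf_eq_top.1 e)))

/-- An element centralising one point centralises every point it fixes. -/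
theorem centralises_of_centralises (S : Sys G) {a b : S.Pt} {x : G} (hab : a ≠ b)
    (hxa : x • a = a) (hxb : x • b = b) (hc : Centralises x a.1) : Centralises x b.1 := by
  have hM := line_normal S hxa hxb
  have hAc : Nat.card ↥(a.1.subgroupOf (a.1 ⊔ b.1)) = 11 := by
    rw [card_subgroupOf le_sup_left, card_pt S]
  have hBc : Nat.card ↥(b.1.subgroupOf (a.1 ⊔ b.1)) = 11 := by
    rw [card_subgroupOf le_sup_right, card_pt S]
  have hne := subgroupOf_ne (le_sup_left : a.1 ≤ a.1 ⊔ b.1) le_sup_right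
    (fun e => hab (Subtype.ext e))
  have hα : ∀ k ∈ a.1.subgroupOf (a.1 ⊔ b.1), autOf hM k = k ^ 1 := fun k hk => Subtype.ext (by
    rw [autOf_apply, pow_one, hc _ (Subgroup.mem_subgroupOf.1 hk), mul_inv_cancel_right])
  obtain ⟨j, hj⟩ := exists_acts (card_pt S b) ((smul_eq_iff S).1 hxb)
  have hβ : ∀ k ∈ b.1.subgroupOf (a.1 ⊔ b.1), autOf hM k = k ^ j := fun k hk => Subtype.ext (by
    rw [autOf_apply, hj _ (Subgroup.mem_subgroupOf.1 hk)]; rfl)
  rcases line S hab with hL | hJ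
  · have h1 := l2_mult hL hAc hBc hne (autOf hM) hα hβ
    rw [one_mul] at h1
    refine centralises_iff.2 (acts_of_cast (card_pt S b) hj ?_)
    rw [← ZMod.natCast_mod, h1]
  · obtain ⟨g, hg⟩ := j1_inner hJ (autOf hM)
    have hgA : g ∈ a.1.subgroupOf (a.1 ⊔ b.1) := by
      rw [← j1_centralizer hJ hAc, Subgroup.mem_centralizer_iff]
      intro k hk
      have h1 := hα k hk
      rw [hg, pow_one, mul_inv_eq_iff_eq_mul] at h1
      exact h1.symm
    intro k hk
    have hk' : k ∈ a.1 ⊔ b.1 := (le_sup_right : b.1 ≤ a.1 ⊔ b.1) hk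
    have h1 : x * k * x⁻¹ = (g : G) * k * (g : G)⁻¹ :=
      (autOf_apply hM ⟨k, hk'⟩).symm.trans (congrArg Subtype.val (hg ⟨k, hk'⟩))
    have hg1 : (g : G) = 1 := by
      by_contra hne1
      refine not_normalizes S hab ?_
      have hgb : cj (g : G) b.1 = b.1 := by
        refine mem_normalizer_of_acts (card_pt S b) (i := j) fun y hy => ?_
        have hy' : y ∈ a.1 ⊔ b.1 := (le_sup_right : b.1 ≤ a.1 ⊔ b.1) hy
        rw [← hj y hy]
        exact ((autOf_apply hM ⟨y, hy'⟩).symm.trans (congrArg Subtype.val (hg ⟨y, hy'⟩))).symm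
      intro y hy
      haveI : Finite a.1 := inferInstance
      obtain ⟨n, hn⟩ := Subgroup.mem_zpowers_iff.1
        (mem_zpowers_of_prime_card (card_pt S a)
          (g := (⟨(g : G), hgA⟩ : a.1)) (fun e => hne1 (congrArg Subtype.val e)) (g' := ⟨y, hy⟩))
      rw [← show (g : G) ^ n = y by simpa using congrArg Subtype.val hn]
      exact Subgroup.zpow_mem _ (cj_eq_self_iff.1 hgb) n
    rw [hg1, one_mul, inv_one, mul_one, mul_inv_eq_iff_eq_mul] at h1
    exact h1

/-- The multipliers of an element commuting with an involution inverting two points. -/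
theorem pair_mult (S : Sys G) {a b : S.Pt} {t x : G} (hab : a ≠ b) (ht2 : t * t = 1)
    (hta : t • a = a) (htb : t • b = b) (hia : Inverts t a.1) (hxa : x • a = a) (hxb : x • b = b)
    (hxt : x * t = t * x) {i j : ℕ} (hi : ActsAs x a.1 i) (hj : ActsAs x b.1 j) :
    i * j % 11 = 1 := by
  have hM := line_normal S hxa hxb
  have hMt := line_normal S hta htb
  have hAc : Nat.card ↥(a.1.subgroupOf (a.1 ⊔ b.1)) = 11 := by
    rw [card_subgroupOf le_sup_left, card_pt S]
  have hBc : Nat.card ↥(b.1.subgroupOf (a.1 ⊔ b.1)) = 11 := by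
    rw [card_subgroupOf le_sup_right, card_pt S]
  have hne := subgroupOf_ne (le_sup_left : a.1 ≤ a.1 ⊔ b.1) le_sup_right
    (fun e => hab (Subtype.ext e))
  have hα : ∀ k ∈ a.1.subgroupOf (a.1 ⊔ b.1), autOf hM k = k ^ i := fun k hk => Subtype.ext (by
    rw [autOf_apply, hi _ (Subgroup.mem_subgroupOf.1 hk)]; rfl)
  have hβ : ∀ k ∈ b.1.subgroupOf (a.1 ⊔ b.1), autOf hM k = k ^ j := fun k hk => Subtype.ext (by
    rw [autOf_apply, hj _ (Subgroup.mem_subgroupOf.1 hk)]; rfl)
  rcases line S hab with hL | hJ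
  · exact l2_mult hL hAc hBc hne (autOf hM) hα hβ
  haveI := j1_simple hJ
  have hc : Subgroup.center ↥(a.1 ⊔ b.1) = ⊥ := by
    rcases (inferInstance : (Subgroup.center ↥(a.1 ⊔ b.1)).Normal).eq_bot_or_eq_top with e | e
    · exact e
    · exfalso
      have h1 := j1_centralizer hJ hAc
      rw [Subgroup.centralizer_eq_top_iff_subset.2 (by rw [e]; exact fun _ _ => Subgroup.mem_top _)] at h1
      have h2 := j1_card hJ
      rw [← Subgroup.card_top, h1, hAc] at h2
      norm_num at h2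
  have huniq : ∀ g g' : ↥(a.1 ⊔ b.1), (∀ k, g * k * g⁻¹ = g' * k * g'⁻¹) → g = g' := by
    intro g g' h
    have h1 : g'⁻¹ * g ∈ Subgroup.center ↥(a.1 ⊔ b.1) := Subgroup.mem_center_iff.2 fun k => by
      have h2 := h k
      rw [mul_inv_eq_iff_eq_mul] at h2
      calc k * (g'⁻¹ * g) = g'⁻¹ * (g' * k * g'⁻¹ * g) := by group
        _ = g'⁻¹ * (g * k) := by rw [h2]
        _ = g'⁻¹ * g * k := by group
    rw [hc, Subgroup.mem_bot, inv_mul_eq_one] at h1
    exact h1.symm
  obtain ⟨g, hg⟩ := j1_inner hJ (autOf hM)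
  obtain ⟨τ, hτ⟩ := j1_inner hJ (autOf hMt)
  have hg' : ∀ k : ↥(a.1 ⊔ b.1), (g : G) * k * (g : G)⁻¹ = x * k * x⁻¹ := fun k =>
    ((autOf_apply hM k).symm.trans (congrArg Subtype.val (hg k))).symm
  have hτ' : ∀ k : ↥(a.1 ⊔ b.1), (τ : G) * k * (τ : G)⁻¹ = t * k * t⁻¹ := fun k =>
    ((autOf_apply hMt k).symm.trans (congrArg Subtype.val (hτ k))).symm
  have hτ2 : τ * τ = 1 := by
    refine huniq _ 1 fun k => Subtype.ext ?_
    push_cast
    have e1 := hτ' ⟨(τ : G) * k * (τ : G)⁻¹, (τ * k * τ⁻¹).2⟩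
    simp only at e1
    rw [hτ' k] at e1
    calc (τ : G) * τ * k * ((τ : G) * τ)⁻¹ = τ * ((τ : G) * k * (τ : G)⁻¹) * (τ : G)⁻¹ := by group
      _ = (t * t) * k * (t * t)⁻¹ := by rw [hτ' k, e1]; group
      _ = _ := by rw [ht2]
  have hτ1 : τ ≠ 1 := by
    intro e
    obtain ⟨y, hy, hyo, -⟩ := exists_gen (card_pt S a)
    have h1 := hτ' ⟨y, (le_sup_left : a.1 ≤ a.1 ⊔ b.1) hy⟩
    rw [e] at h1
    simp only [OneMemClass.coe_one, one_mul, inv_one, mul_one] at h1
    rw [hia y hy] at h1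
    have : y ^ 2 = 1 := by rw [sq]; nth_rw 1 [h1]; exact inv_mul_cancel y
    have := orderOf_dvd_of_pow_eq_one this
    rw [hyo] at this
    norm_num at this
  have hτo : orderOf τ = 2 := orderOf_eq_prime (by rw [sq, hτ2]) hτ1
  have hcomm : g * τ = τ * g := by
    refine huniq _ _ fun k => Subtype.ext ?_
    push_cast
    have e1 := hg' ⟨(τ : G) * k * (τ : G)⁻¹, (τ * k * τ⁻¹).2⟩
    have e2 := hτ' ⟨(g : G) * k * (g : G)⁻¹, (g * k * g⁻¹).2⟩
    simp only at e1 e2
    rw [hτ' k] at e1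
    rw [hg' k] at e2
    calc (g : G) * τ * k * ((g : G) * τ)⁻¹ = g * ((τ : G) * k * (τ : G)⁻¹) * (g : G)⁻¹ := by group
      _ = (x * t) * k * (x * t)⁻¹ := by rw [hτ' k, e1]; group
      _ = (t * x) * k * (t * x)⁻¹ := by rw [hxt]
      _ = τ * ((g : G) * k * (g : G)⁻¹) * (τ : G)⁻¹ := by rw [hg' k, e2]; group
      _ = _ := by group
  have hfix : ∀ c : S.Pt, c.1 ≤ a.1 ⊔ b.1 → t • c = c →
      cj τ (c.1.subgroupOf (a.1 ⊔ b.1)) = c.1.subgroupOf (a.1 ⊔ b.1) := by
    intro c hle htc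
    rw [cj_subgroupOf]
    congr 1
    ext y
    rw [mem_cj]
    constructor
    · intro hy
      have h2 : (τ : G) * ((τ : G)⁻¹ * y * τ) * (τ : G)⁻¹ ∈ c.1 := by
        rw [show (τ : G) * ((τ : G)⁻¹ * y * τ) * (τ : G)⁻¹ =
          t * ((τ : G)⁻¹ * y * τ) * t⁻¹ from hτ' ⟨_, hle hy⟩]
        have h5 := (smul_eq_iff S).1 htc
        rw [← h5]
        exact ⟨_, hy, rfl⟩
      simpa [mul_assoc] using h2
    · intro hy
      have hti : t⁻¹ = t := inv_eq_of_mul_eq_one_left ht2
      have hτi : (τ : G)⁻¹ = τ := by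
        rw [← Subgroup.coe_inv, inv_eq_of_mul_eq_one_left hτ2]
      have h2 : t * y * t⁻¹ ∈ c.1 := by
        have h5 := (smul_eq_iff S).1 htc
        rw [← h5]
        exact ⟨_, hy, rfl⟩
      rw [hτi]
      have h3 := hτ' ⟨y, hle hy⟩
      rw [hτi] at h3
      rw [h3]
      exact h2
  exact j1_pair_mult hJ hτo hAc hBc hne (hfix a le_sup_left hta) (hfix b le_sup_right htb) hcomm
    (fun k hk => by rw [← hg k]; exact hα k hk) (fun k hk => by rw [← hg k]; exact hβ k hk)

end H92.Eleven
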