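import Cfsg.Agent.H63.Eleven.Defs

/-!
A `J₁` line with an involution and one of its fixed points (case B of S3403): definitions.
-/

set_option autoImplicit false

namespace H92.Eleven

open H63.Eleven

universe u

variable {G : Type u} [Group G]

/-- A line isomorphic to `J₁`. -/
def JLine (S : Sys G) (M : Subgroup G) : Prop :=
  ∃ c d : S.Pt, c ≠ d ∧ M = c.1 ⊔ d.1 ∧ Cfsg.Spor.IsoJ1 ↥M

/-- The configuration: a `J₁` line, an involution of it and a point of it fixed by the involution. -/
structure Conf (S : Sys G) where
  simple : IsSimpleGroup G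
  sub : S.SubHyp
  L : Subgroup G
  line : JLine S L
  t : G
  t_mem : t ∈ L
  order_t : orderOf t = 2
  a : S.Pt
  a_le : a.1 ≤ L
  t_a : t • a = a

/-- The `J₁` lines through the point that contain the involution. -/
abbrev Conf.Bl {S : Sys G} (C : Conf S) : Type u :=
  {M : Subgroup G // JLine S M ∧ C.a.1 ≤ M ∧ C.t ∈ M}

/-- The number of blocks. -/
noncomputable def Conf.u {S : Sys G} (C : Conf S) : ℕ := Nat.card C.Bl

/-- The order of the centraliser of the line. -/
noncomputable def Conf.v {S : Sys G} (C : Conf S) : ℕ :=
  Nat.card ↥(Subgroup.centralizer (C.L : Set G))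

end H92.Eleven
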