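import Cfsg.Agent.H92.Eleven.Conf
import Cfsg.Agent.H92.Eleven.Base

/-!
Basic facts on `J₁` lines.
-/

set_option autoImplicit false
set_option linter.style.haveILetI false
set_option linter.unusedSectionVars false

namespace H92.Eleven

open H63.Eleven

universe u

theorem j1_center {K : Type u} [Group K] [Finite K] (h : Cfsg.Spor.IsoJ1 K) :
    Subgroup.center K = ⊥ := by
  haveI := j1_simple h
  rcases (inferInstance : (Subgroup.center K).Normal).eq_bot_or_eq_top with e | e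
  · exact e
  · exfalso
    haveI : Fact (Nat.Prime 11) := ⟨by norm_num⟩
    obtain ⟨g, hg⟩ := exists_prime_orderOf_dvd_card' (G := K) 11 (by rw [j1_card h]; norm_num)
    have hA : Nat.card ↥(Subgroup.zpowers g) = 11 := by rw [Nat.card_zpowers, hg]
    have h1 := j1_centralizer h hA
    rw [Subgroup.centralizer_eq_top_iff_subset.2
      (by rw [e]; exact fun _ _ => Subgroup.mem_top _)] at h1
    have h2 := j1_card h
    rw [← Subgroup.card_top, h1, hA] at h2
    norm_num at h2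

variable {G : Type u} [Group G] [Finite G] {S : Sys G} {M : Subgroup G}

theorem JLine.iso (h : JLine S M) : Cfsg.Spor.IsoJ1 ↥M := by
  obtain ⟨-, -, -, -, hJ⟩ := h; exact hJ

theorem JLine.card (h : JLine S M) : Nat.card ↥M = 175560 := j1_card h.iso

theorem JLine.conj (h : JLine S M) (g : G) : JLine S (cj g M) := by
  obtain ⟨c, d, hcd, rfl, ⟨e⟩⟩ := h
  refine ⟨g • c, g • d, (MulAction.injective g).ne hcd, cj_sup g _ _, ⟨?_⟩⟩
  exact (Subgroup.equivMapOfInjective _ _ (MulAut.conj g).injective).symm.trans e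

theorem JLine.smul_le {x : G} (hx : x ∈ M) {c : S.Pt} (hc : c.1 ≤ M) : (x • c).1 ≤ M :=
  cj_le hc hx

/-- A conjugate of a subgroup by a member of it. -/
theorem cj_self_of_mem {x : G} (hx : x ∈ M) : cj x M = M :=
  cj_eq_self_iff.2 (Subgroup.le_normalizer hx)

theorem cj_centralizer (g : G) (M : Subgroup G) :
    Subgroup.centralizer ((cj g M : Subgroup G) : Set G) =
      cj g (Subgroup.centralizer (M : Set G)) := by
  ext x
  rw [mem_cj, Subgroup.mem_centralizer_iff, Subgroup.mem_centralizer_iff]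
  constructor
  · intro h m hm
    have := h (g * m * g⁻¹) ⟨m, hm, rfl⟩
    calc m * (g⁻¹ * x * g) = g⁻¹ * ((g * m * g⁻¹) * x) * g := by group
      _ = g⁻¹ * (x * (g * m * g⁻¹)) * g := by rw [this]
      _ = _ := by group
  · rintro h _ ⟨m, hm, rfl⟩
    show g * m * g⁻¹ * x = x * (g * m * g⁻¹)
    calc g * m * g⁻¹ * x = g * (m * (g⁻¹ * x * g)) * g⁻¹ := by group
      _ = g * ((g⁻¹ * x * g) * m) * g⁻¹ := by rw [h m hm]
      _ = _ := by group

theorem JLine.conj_sub (h : JLine S M) {A B : Subgroup G}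
    (hA : Nat.card ↥A = 11) (hB : Nat.card ↥B = 11) (hAM : A ≤ M) (hBM : B ≤ M) :
    ∃ x ∈ M, cj x A = B := by
  have hsyl : ∀ C : Subgroup G, Nat.card ↥C = 11 → C ≤ M →
      ∃ T : Sylow 11 ↥M, (T : Subgroup ↥M) = C.subgroupOf M := by
    intro C hC hCM
    have hc : Nat.card ↥(C.subgroupOf M) = 11 := by rw [card_subgroupOf hCM, hC]
    obtain ⟨T, hT⟩ := (IsPGroup.of_card (n := 1) (by simpa using hc) :
      IsPGroup 11 ↥(C.subgroupOf M)).exists_le_sylow
    refine ⟨T, (Subgroup.eq_of_le_of_card_ge hT ?_).symm⟩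
    obtain ⟨k, hk⟩ := IsPGroup.iff_card.mp T.isPGroup'
    have hdvd : 11 ^ k ∣ Nat.card ↥M := hk ▸ Subgroup.card_subgroup_dvd_card _
    have hk1 : k ≤ 1 := by
      by_contra hk2
      have h2 : 11 ^ 2 ∣ Nat.card ↥M := (Nat.pow_dvd_pow 11 (by omega)).trans hdvd
      rw [h.card] at h2
      norm_num at h2
    rw [hk, hc]
    calc 11 ^ k ≤ 11 ^ 1 := Nat.pow_le_pow_right (by norm_num) hk1
      _ = 11 := pow_one _
  obtain ⟨T, hT⟩ := hsyl A hA hAM
  obtain ⟨U, hU⟩ := hsyl B hB hBM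
  obtain ⟨x, hx⟩ := MulAction.exists_smul_eq ↥M T U
  refine ⟨x, x.2, cj_eq_of_subgroupOf hAM hBM ?_⟩
  rw [← hT, ← hU, ← hx]
  rfl

/-- A subgroup of order eleven of a line is a point. -/
theorem JLine.exists_pt (h : JLine S M) {A : Subgroup G} (hA : Nat.card ↥A = 11) (hAM : A ≤ M) :
    ∃ e : S.Pt, e.1 = A := by
  obtain ⟨c, d, -, rfl, -⟩ := id h
  obtain ⟨x, -, hx⟩ := h.conj_sub (card_pt S c) hA le_sup_left hAM
  exact ⟨x • c, hx⟩

theorem JLine.pt_conj (h : JLine S M) {c d : S.Pt} (hc : c.1 ≤ M) (hd : d.1 ≤ M) :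
    ∃ x ∈ M, x • c = d := by
  obtain ⟨x, hx, e⟩ := h.conj_sub (card_pt S c) (card_pt S d) hc hd
  exact ⟨x, hx, Subtype.ext e⟩

theorem smul_fix_iff {x : G} (hx : x ∈ M) {c : S.Pt} (hc : c.1 ≤ M) :
    x • c = c ↔ cj (⟨x, hx⟩ : ↥M) (c.1.subgroupOf M) = c.1.subgroupOf M := by
  rw [cj_subgroupOf]
  refine ⟨fun e => by rw [show cj x c.1 = c.1 from (smul_eq_iff S).1 e], fun e => ?_⟩
  refine (smul_eq_iff S).2 ?_
  have := congrArg (Subgroup.map M.subtype) e
  rwa [Subgroup.map_subgroupOf_eq_of_le (cj_le hc hx),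
    Subgroup.map_subgroupOf_eq_of_le hc] at this

/-- Subgroups of order eleven of a line are its points. -/
theorem JLine.exists_subgroupOf (h : JLine S M) {A : Subgroup ↥M} (hA : Nat.card ↥A = 11) :
    ∃ e : S.Pt, e.1 ≤ M ∧ e.1.subgroupOf M = A := by
  obtain ⟨e, he⟩ := h.exists_pt (A := A.map M.subtype)
    (by rw [Subgroup.card_map_of_injective M.subtype_injective, hA]) (Subgroup.map_subtype_le A)
  refine ⟨e, he ▸ Subgroup.map_subtype_le A, ?_⟩
  rw [he, Subgroup.subgroupOf, Subgroup.comap_map_eq_self_of_injective M.subtype_injective]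

theorem JLine.fix_twelve (h : JLine S M) {x : G} (hx : x ∈ M) (ho : orderOf x = 2) :
    Nat.card {c : S.Pt // c.1 ≤ M ∧ x • c = c} = 12 := by
  rw [← j1_fix_twelve h.iso (t := ⟨x, hx⟩) (by rw [Subgroup.orderOf_mk, ho])]
  refine Nat.card_congr (Equiv.ofBijective
    (fun c => ⟨c.1.1.subgroupOf M, by rw [card_subgroupOf c.2.1, card_pt S],
      (smul_fix_iff hx c.2.1).1 c.2.2⟩) ⟨?_, ?_⟩)
  · intro c d e
    have e' : c.1.1.subgroupOf M = d.1.1.subgroupOf M := congrArg Subtype.val e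
    by_contra hne
    exact subgroupOf_ne c.2.1 d.2.1
      (fun e2 => hne (Subtype.ext (Subtype.ext e2))) e'
  · rintro ⟨A, hA, hxA⟩
    obtain ⟨e, heM, rfl⟩ := h.exists_subgroupOf hA
    exact ⟨⟨e, heM, (smul_fix_iff hx heM).2 hxA⟩, rfl⟩

theorem JLine.exists_fix (h : JLine S M) {x : G} (hx : x ∈ M) (ho : orderOf x = 2) :
    ∃ c : S.Pt, c.1 ≤ M ∧ x • c = c := by
  have : Nonempty {c : S.Pt // c.1 ≤ M ∧ x • c = c} :=
    (Nat.card_pos_iff.1 (by rw [h.fix_twelve hx ho]; norm_num)).1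
  obtain ⟨⟨c, hc⟩⟩ := this
  exact ⟨c, hc⟩

theorem sq_of_order_two {x : G} (ho : orderOf x = 2) : x * x = 1 := by
  rw [← sq, ← ho, pow_orderOf_eq_one]

theorem JLine.centralizer_point (h : JLine S M) {c : S.Pt} (hc : c.1 ≤ M) {x : G} (hx : x ∈ M)
    (hcen : Centralises x c.1) : x ∈ c.1 := by
  have hA : Nat.card ↥(c.1.subgroupOf M) = 11 := by rw [card_subgroupOf hc, card_pt S]
  have : (⟨x, hx⟩ : ↥M) ∈ Subgroup.centralizer (c.1.subgroupOf M : Set ↥M) :=
    Subgroup.mem_centralizer_iff.2 fun k hk => Subtype.ext (hcen _ (Subgroup.mem_subgroupOf.1 hk)).symm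
  rw [j1_centralizer h.iso hA] at this
  exact Subgroup.mem_subgroupOf.1 this

/-- An involution of a line inverts every point it fixes, on or off the line. -/
theorem JLine.invol_inverts (h : JLine S M) {x : G} (hx : x ∈ M) (ho : orderOf x = 2) {c : S.Pt}
    (hc : x • c = c) : Inverts x c.1 := by
  rcases acts_of_sq (card_pt S c) ((smul_eq_iff S).1 hc) (sq_of_order_two ho) with h1 | h1
  · exfalso
    obtain ⟨e, he, hxe⟩ := h.exists_fix hx ho
    have h2 : Centralises x e.1 := by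
      by_cases hce : c = e
      · exact hce ▸ h1
      · exact centralises_of_centralises S hce hc hxe h1
    have h3 := Subgroup.orderOf_dvd_natCard _ (h.centralizer_point he hx h2)
    rw [ho, card_pt S] at h3
    norm_num at h3
  · exact h1

theorem not_inverts_and_centralises {x : G} {c : S.Pt} (h1 : Inverts x c.1)
    (h2 : Centralises x c.1) : False := by
  obtain ⟨g, hg, hgo, -⟩ := exists_gen (card_pt S c)
  have h3 := h1 g hg
  rw [h2 g hg, mul_inv_cancel_right] at h3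
  have h4 : g ^ 2 = 1 := by rw [sq]; nth_rw 1 [h3]; exact inv_mul_cancel g
  have h5 := orderOf_dvd_of_pow_eq_one h4
  rw [hgo] at h5
  norm_num at h5

theorem JLine.inf_centralizer (h : JLine S M) :
    M ⊓ Subgroup.centralizer (M : Set G) = ⊥ := by
  rw [eq_bot_iff]
  rintro x ⟨hx, hxc⟩
  have : (⟨x, hx⟩ : ↥M) ∈ Subgroup.center ↥M :=
    Subgroup.mem_center_iff.2 fun m => Subtype.ext (Subgroup.mem_centralizer_iff.1 hxc m m.2)
  rw [j1_center h.iso, Subgroup.mem_bot] at this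
  exact Subgroup.mem_bot.2 (congrArg Subtype.val this)

theorem JLine.inner (h : JLine S M) {g : G} (hg : cj g M = M) :
    ∃ l ∈ M, ∃ e ∈ Subgroup.centralizer (M : Set G), g = l * e := by
  obtain ⟨l, hl⟩ := j1_inner h.iso (autOf hg)
  refine ⟨l, l.2, (l : G)⁻¹ * g, Subgroup.mem_centralizer_iff.2 fun m hm => ?_, by group⟩
  have h1 : g * m * g⁻¹ = (l : G) * m * (l : G)⁻¹ :=
    (autOf_apply hg ⟨m, hm⟩).symm.trans (congrArg Subtype.val (hl ⟨m, hm⟩))
  calc m * ((l : G)⁻¹ * g) = (l : G)⁻¹ * ((l : G) * m * (l : G)⁻¹) * g := by group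
    _ = (l : G)⁻¹ * (g * m * g⁻¹) * g := by rw [h1]
    _ = _ := by group

/-! ### In a simple group satisfying the hypothesis on subgroups -/

theorem center_eq_bot (S : Sys G) (hG : IsSimpleGroup G) : Subgroup.center G = ⊥ := by
  rcases (inferInstance : (Subgroup.center G).Normal).eq_bot_or_eq_top with e | e
  · exact e
  · exfalso
    obtain ⟨g, hg⟩ := S.moved
    refine hg (cj_eq_self_iff.2 ?_)
    have : g ∈ Subgroup.center G := e ▸ Subgroup.mem_top g
    rw [Subgroup.mem_normalizer_iff]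
    intro y
    rw [← Subgroup.mem_center_iff.1 this y, mul_inv_cancel_right]

theorem JLine.sup_eq_top (hsub : S.SubHyp) (h : JLine S M) {c : S.Pt} (hc : ¬ c.1 ≤ M) :
    M ⊔ c.1 = ⊤ := by
  by_contra hne
  obtain ⟨p, q, hpq, hM, hJ⟩ := id h
  set T : Set (Subgroup G) := {p.1, q.1, c.1} with hT
  have hsup : sSup T = M ⊔ c.1 := by
    rw [hT, sSup_insert, sSup_insert, sSup_singleton, hM, sup_assoc]
  have := hsub T (by rintro _ (rfl | rfl | rfl) <;> exact Subtype.prop _)
    ⟨p.1, by simp [hT], q.1, by simp [hT], fun e => hpq (Subtype.ext e)⟩ (hsup ▸ hne)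
  rw [hsup] at this
  have hle : Nat.card ↥M ≤ Nat.card ↥(M ⊔ c.1) :=
    Nat.le_of_dvd Nat.card_pos (Subgroup.card_dvd_of_le le_sup_left)
  rw [h.card] at hle
  rcases this with h1 | h1
  · rw [l2_card h1] at hle; omega
  · exact hc ((Subgroup.eq_of_le_of_card_ge (le_sup_left : M ≤ M ⊔ c.1)
      (by rw [h.card, j1_card h1])).symm ▸ le_sup_right)

theorem JLine.centralizer_fix (hG : IsSimpleGroup G) (hsub : S.SubHyp) (h : JLine S M) {e : G}
    (he : e ∈ Subgroup.centralizer (M : Set G)) (he1 : e ≠ 1) (c : S.Pt) :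
    e • c = c ↔ c.1 ≤ M := by
  have hcen : ∀ d : S.Pt, d.1 ≤ M → Centralises e d.1 := fun d hd x hx =>
    (Subgroup.mem_centralizer_iff.1 he x (hd hx)).symm
  have hfix : ∀ d : S.Pt, d.1 ≤ M → e • d = d := fun d hd =>
    (smul_eq_iff S).2 (mem_normalizer_of_acts (card_pt S d) (centralises_iff.1 (hcen d hd)))
  refine ⟨fun hc => ?_, hfix c⟩
  by_contra hcM
  obtain ⟨p, q, -, hM, -⟩ := id h
  have hp : p.1 ≤ M := hM ▸ le_sup_left
  have h1 : Centralises e c.1 :=
    centralises_of_centralises S (fun e' => hcM (e' ▸ hp)) (hfix p hp) hc (hcen p hp)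
  have h2 : M ⊔ c.1 ≤ Subgroup.centralizer ({e} : Set G) :=
    sup_le (fun x hx => Subgroup.mem_centralizer_singleton_iff.2
        (Subgroup.mem_centralizer_iff.1 he x hx))
      (fun x hx => Subgroup.mem_centralizer_singleton_iff.2 (h1 x hx).symm)
  rw [h.sup_eq_top hsub hcM] at h2
  have h3 : e ∈ Subgroup.center G := Subgroup.mem_center_iff.2 fun x =>
    Subgroup.mem_centralizer_singleton_iff.1 (h2 (Subgroup.mem_top x))
  rw [center_eq_bot S hG, Subgroup.mem_bot] at h3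
  exact he1 h3

end H92.Eleven
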