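import Cfsg.Agent.H92.Eleven.Api

/-!
The decomposition of the normaliser of a line.
-/

set_option autoImplicit false
set_option linter.style.haveILetI false
set_option linter.unusedSectionVars false

namespace H92.Eleven

open H63.Eleven

universe u

variable {G : Type u} [Group G] [Finite G] {S : Sys G} {M : Subgroup G}

theorem centralizer_comm {e x : G} (he : e ∈ Subgroup.centralizer (M : Set G)) (hx : x ∈ M) :
    e * x = x * e := (Subgroup.mem_centralizer_iff.1 he x hx).symm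

theorem centralizer_smul {e : G} (he : e ∈ Subgroup.centralizer (M : Set G)) {c : S.Pt}
    (hc : c.1 ≤ M) : e • c = c :=
  (smul_eq_iff S).2 (mem_normalizer_of_acts (card_pt S c)
    (centralises_iff.1 fun x hx => centralizer_comm he (hc hx)))

theorem JLine.split_sq (h : JLine S M) {l e : G} (hl : l ∈ M)
    (he : e ∈ Subgroup.centralizer (M : Set G)) (h2 : l * e * (l * e) = 1) :
    l * l = 1 ∧ e * e = 1 := by
  have h1 : l * l * (e * e) = 1 := by
    rw [← h2]
    calc l * l * (e * e) = l * (l * e) * e := by group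
      _ = l * (e * l) * e := by rw [centralizer_comm he hl]
      _ = _ := by group
  have h3 : l * l ∈ Subgroup.centralizer (M : Set G) := by
    rw [mul_eq_one_iff_eq_inv.1 h1]
    exact Subgroup.inv_mem _ (Subgroup.mul_mem _ he he)
  have h4 : l * l ∈ M ⊓ Subgroup.centralizer (M : Set G) := ⟨M.mul_mem hl hl, h3⟩
  rw [h.inf_centralizer, Subgroup.mem_bot] at h4
  exact ⟨h4, by rwa [h4, one_mul] at h1⟩

theorem JLine.mul_inj (h : JLine S M) {l l' e e' : G} (hl : l ∈ M) (hl' : l' ∈ M)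
    (he : e ∈ Subgroup.centralizer (M : Set G)) (he' : e' ∈ Subgroup.centralizer (M : Set G))
    (heq : l * e = l' * e') : l = l' ∧ e = e' := by
  have h3 : l'⁻¹ * l = e' * e⁻¹ := by
    rw [inv_mul_eq_iff_eq_mul, ← mul_assoc, eq_mul_inv_iff_mul_eq, heq]
  have h4 : l'⁻¹ * l ∈ M ⊓ Subgroup.centralizer (M : Set G) :=
    ⟨M.mul_mem (M.inv_mem hl') hl, h3 ▸ Subgroup.mul_mem _ he' (Subgroup.inv_mem _ he)⟩
  rw [h.inf_centralizer, Subgroup.mem_bot] at h4
  obtain rfl := inv_mul_eq_one.1 h4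
  exact ⟨rfl, mul_left_cancel heq⟩

theorem JLine.card_prod (h : JLine S M) {H N : Subgroup G} (hH : H ≤ M)
    (hN : ∀ g : G, g ∈ N ↔ ∃ l ∈ H, ∃ e ∈ Subgroup.centralizer (M : Set G), g = l * e) :
    Nat.card ↥N = Nat.card ↥H * Nat.card ↥(Subgroup.centralizer (M : Set G)) := by
  rw [← Nat.card_prod]
  refine (Nat.card_congr (Equiv.ofBijective
    (fun p : ↥H × ↥(Subgroup.centralizer (M : Set G)) =>
      (⟨p.1 * p.2, (hN _).2 ⟨p.1, p.1.2, p.2, p.2.2, rfl⟩⟩ : ↥N)) ⟨?_, ?_⟩)).symm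
  · intro p q e
    obtain ⟨h1, h2⟩ := h.mul_inj (hH p.1.2) (hH q.1.2) p.2.2 q.2.2 (congrArg Subtype.val e)
    exact Prod.ext (Subtype.ext h1) (Subtype.ext h2)
  · rintro ⟨g, hg⟩
    obtain ⟨l, hl, e, he, rfl⟩ := (hN g).1 hg
    exact ⟨(⟨l, hl⟩, ⟨e, he⟩), rfl⟩

namespace Conf

variable (C : Conf S)

/-- An element sending two fixed points of `L` into `L` normalises it. -/
theorem stab_L {g : G} (h : ∀ c : S.Pt, c.1 ≤ C.L → C.t • c = c → (g • c).1 ≤ C.L) :
    cj g C.L = C.L := by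
  obtain ⟨b, y, w, hba, hbL, htb, -⟩ := C.exists_axis
  refine Subgroup.eq_of_le_of_card_ge ?_ (by rw [card_cj])
  rw [← C.pair_eq C.line C.t_mem C.t_a htb C.a_le hbL hba.symm, cj_sup, sup_le_iff]
  rw [C.pair_eq C.line C.t_mem C.t_a htb C.a_le hbL hba.symm]
  exact ⟨h C.a C.a_le C.t_a, h b hbL htb⟩

/-- The configuration conjugated by `g`. -/
@[simps] def map (g : G) : Conf S where
  simple := C.simple
  sub := C.sub
  L := cj g C.L
  line := C.line.conj g
  t := g * C.t * g⁻¹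
  t_mem := ⟨C.t, C.t_mem, rfl⟩
  order_t := by
    rw [show g * C.t * g⁻¹ = MulAut.conj g C.t from rfl, MulEquiv.orderOf_eq, C.order_t]
  a := g • C.a
  a_le := Subgroup.map_mono C.a_le
  t_a := by rw [← mul_smul, inv_mul_cancel_right, mul_smul, C.t_a]

end Conf

end H92.Eleven
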